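import Cfsg.Agent.Lib.Cert.Mat
import Cfsg.Agent.Lib.Cert.Sch2

set_option autoImplicit false
set_option maxRecDepth 100000

namespace Cfsg.Agent.Ct.M24s.S2

open Cfsg.Agent.PC

open Cfsg.Agent.Fi Cfsg.Agent.Ct
def W_t : TL := (TL.node (TL.node (TL.node (TL.node (TL.node (TL.leaf []) (TL.leaf [nat_lit 4, nat_lit 4, nat_lit 4, nat_lit 4, nat_lit 4, nat_lit 4, nat_lit 6, nat_lit 6, nat_lit 6, nat_lit 6, nat_lit 6, nat_lit 6, nat_lit 6, nat_lit 6, nat_lit 6, nat_lit 6, nat_lit 6, nat_lit 6, nat_lit 5, nat_lit 4, nat_lit 6, nat_lit 5, nat_lit 5, nat_lit 5, nat_lit 5, nat_lit 6, nat_lit 6, nat_lit 6, nat_lit 6, nat_lit 6, nat_lit 6, nat_lit 2, nat_lit 3, nat_lit 0, nat_lit 7, nat_lit 7, nat_lit 7, nat_lit 7, nat_lit 7, nat_lit 7, nat_lit 7, nat_lit 7, nat_lit 7, nat_lit 7, nat_lit 7, nat_lit 7, nat_lit 7, nat_lit 5, nat_lit 5, nat_lit 5, nat_lit 5, nat_lit 1, nat_lit 0, nat_lit 5, nat_lit 5, nat_lit 5, nat_lit 5, nat_lit 0, nat_lit 2, nat_lit 2, nat_lit 1, nat_lit 4, nat_lit 4, nat_lit 4, nat_lit 4, nat_lit 4, nat_lit 4, nat_lit 6, nat_lit 4, nat_lit 4, nat_lit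 4, nat_lit 4, nat_lit 4, nat_lit 4, nat_lit 3, nat_lit 3, nat_lit 3, nat_lit 3, nat_lit 0, nat_lit 7, nat_lit 4, nat_lit 4, nat_lit 4, nat_lit 4, nat_lit 4, nat_lit 4, nat_lit 2, nat_lit 4, nat_lit 4, nat_lit 4, nat_lit 4, nat_lit 4, nat_lit 4, nat_lit 7, nat_lit 7, nat_lit 7, nat_lit 7, nat_lit 7, nat_lit 7, nat_lit 7, nat_lit 7, nat_lit 7, nat_lit 7, nat_lit 7, nat_lit 7, nat_lit 7, nat_lit 0, nat_lit 0])) (TL.node (TL.leaf [nat_lit 4, nat_lit 4, nat_lit 4, nat_lit 4, nat_lit 4, nat_lit 4, nat_lit 6, nat_lit 6, nat_lit 6, nat_lit 6, nat_lit 6, nat_lit 6, nat_lit 6, nat_lit 6, nat_lit 6, nat_lit 6, nat_lit 6, nat_lit 6, nat_lit 5, nat_lit 3, nat_lit 7, nat_lit 6, nat_lit 0, nat_lit 7, nat_lit 7, nat_lit 7, nat_lit 7, nat_lit 7, nat_lit 7, nat_lit 7, nat_lit 7, nat_lit 7, nat_lit 7, nat_lit 7, nat_lit 7, nat_lit 7, nat_lit 5, nat_lit 5, nat_lit 5, nat_lit 5, nat_lit 6, nat_lit 0, nat_lit 0, nat_lit 7, nat_lit 7, nat_lit 7, nat_lit 7, nat_lit 7, nat_lit 7, nat_lit 7, nat_lit 7, nat_lit 7, nat_lit 7, nat_lit 7, nat_lit 7, nat_lit 7, nat_lit 1, nat_lit 2,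 nat_lit 2, nat_lit 2, nat_lit 2, nat_lit 5, nat_lit 3, nat_lit 3, nat_lit 3, nat_lit 3, nat_lit 5, nat_lit 2]) (TL.leaf [nat_lit 4, nat_lit 4, nat_lit 4, nat_lit 4, nat_lit 4, nat_lit 4, nat_lit 6, nat_lit 5, nat_lit 0, nat_lit 0, nat_lit 4, nat_lit 5, nat_lit 5, nat_lit 5, nat_lit 5, nat_lit 4, nat_lit 6, nat_lit 5, nat_lit 5, nat_lit 5, nat_lit 5, nat_lit 2, nat_lit 7, nat_lit 7, nat_lit 7, nat_lit 7, nat_lit 7, nat_lit 7, nat_lit 7, nat_lit 7, nat_lit 7, nat_lit 7, nat_lit 7, nat_lit 7, nat_lit 7, nat_lit 5, nat_lit 5, nat_lit 5, nat_lit 5, nat_lit 3, nat_lit 6, nat_lit 6, nat_lit 6, nat_lit 6, nat_lit 6, nat_lit 6, nat_lit 5, nat_lit 5, nat_lit 5, nat_lit 5, nat_lit 6, nat_lit 6, nat_lit 6, nat_lit 6, nat_lit 6, nat_lit 6, nat_lit 1, nat_lit 4, nat_lit 4, nat_lit 4, nat_lit 4, nat_lit 4, nat_lit 4, nat_lit 3, nat_lit 6, nat_lit 6, nat_lit 6, nat_lit 6, nat_lit 6, nat_lit 6, nat_lit 3, nat_lit 3, nat_lit 3, nat_lit 3, nat_lit 6, nat_lit 0, nat_lit 6, nat_lit 2, nat_lit 4, nat_lit 4, nat_lit 6, nat_lit 6, nat_lit 6, nat_lit 6, nat_lit 6, nat_lit 6])))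 (TL.node (TL.node (TL.leaf [nat_lit 6, nat_lit 5, nat_lit 4, nat_lit 4, nat_lit 4, nat_lit 4, nat_lit 4, nat_lit 4, nat_lit 0, nat_lit 0, nat_lit 6, nat_lit 4, nat_lit 5, nat_lit 5, nat_lit 5, nat_lit 5, nat_lit 3, nat_lit 6, nat_lit 6, nat_lit 6, nat_lit 6, nat_lit 6, nat_lit 6, nat_lit 5, nat_lit 5, nat_lit 5, nat_lit 5, nat_lit 2, nat_lit 0, nat_lit 0, nat_lit 3, nat_lit 2, nat_lit 4, nat_lit 4, nat_lit 4, nat_lit 4, nat_lit 4, nat_lit 4, nat_lit 6, nat_lit 6, nat_lit 6, nat_lit 6, nat_lit 6, nat_lit 6]) (TL.leaf [nat_lit 4, nat_lit 6, nat_lit 6, nat_lit 6, nat_lit 6, nat_lit 6, nat_lit 6, nat_lit 5, nat_lit 5, nat_lit 5, nat_lit 5, nat_lit 1, nat_lit 5, nat_lit 6, nat_lit 4, nat_lit 4, nat_lit 4, nat_lit 4, nat_lit 4, nat_lit 4, nat_lit 7, nat_lit 2, nat_lit 2, nat_lit 4, nat_lit 5, nat_lit 5, nat_lit 5, nat_lit 5, nat_lit 3, nat_lit 6, nat_lit 6, nat_lit 6, nat_lit 6, nat_lit 6, nat_lit 6, nat_lit 5, nat_lit 5, nat_lit 5, nat_lit 5, nat_lit 3, nat_lit 0, nat_lit 7, nat_lit 7, nat_lit 7, nat_lit 7, nat_lit 7, nat_lit 7, nat_lit 7, nat_lit 7, nat_lit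 7, nat_lit 7, nat_lit 7, nat_lit 7, nat_lit 7, nat_lit 0, nat_lit 0, nat_lit 6, nat_lit 6, nat_lit 6, nat_lit 6, nat_lit 6, nat_lit 6])) (TL.leaf [nat_lit 2, nat_lit 2, nat_lit 0, nat_lit 6, nat_lit 6, nat_lit 6, nat_lit 6, nat_lit 6, nat_lit 6, nat_lit 4, nat_lit 3, nat_lit 3, nat_lit 3, nat_lit 3, nat_lit 2, nat_lit 2, nat_lit 3, nat_lit 4, nat_lit 4, nat_lit 4, nat_lit 4, nat_lit 4, nat_lit 4, nat_lit 6, nat_lit 6, nat_lit 6, nat_lit 6, nat_lit 6, nat_lit 6, nat_lit 1, nat_lit 0, nat_lit 5, nat_lit 6, nat_lit 6, nat_lit 6, nat_lit 6, nat_lit 6, nat_lit 6, nat_lit 7, nat_lit 7, nat_lit 7, nat_lit 7, nat_lit 7, nat_lit 7, nat_lit 7, nat_lit 7, nat_lit 7, nat_lit 7, nat_lit 7, nat_lit 7, nat_lit 7, nat_lit 6, nat_lit 6, nat_lit 6, nat_lit 6, nat_lit 6, nat_lit 6, nat_lit 2, nat_lit 7, nat_lit 7, nat_lit 7, nat_lit 7, nat_lit 7, nat_lit 7, nat_lit 7, nat_lit 7, nat_lit 7, nat_lit 7, nat_lit 7, nat_lit 7, nat_lit 7, nat_lit 2, nat_lit 0, nat_lit 0, nat_lit 7, nat_lit 0, nat_lit 4, nat_lit 2, nat_lit 2]))) (TL.node (TL.node (TL.node (TL.leaf [nat_lit 4, nat_lit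 6, nat_lit 6, nat_lit 6, nat_lit 6, nat_lit 6, nat_lit 6, nat_lit 5, nat_lit 5, nat_lit 5, nat_lit 5, nat_lit 2, nat_lit 2, nat_lit 0, nat_lit 5, nat_lit 6, nat_lit 4, nat_lit 4, nat_lit 4, nat_lit 4, nat_lit 4, nat_lit 4, nat_lit 0, nat_lit 0, nat_lit 1, nat_lit 6, nat_lit 4, nat_lit 2, nat_lit 2, nat_lit 6, nat_lit 5, nat_lit 5, nat_lit 5, nat_lit 5, nat_lit 5, nat_lit 5, nat_lit 5, nat_lit 5, nat_lit 5, nat_lit 5, nat_lit 5, nat_lit 5, nat_lit 3, nat_lit 3, nat_lit 3, nat_lit 3, nat_lit 0, nat_lit 0, nat_lit 3, nat_lit 5, nat_lit 2, nat_lit 2, nat_lit 0, nat_lit 0, nat_lit 7]) (TL.leaf [nat_lit 4, nat_lit 4, nat_lit 4, nat_lit 4, nat_lit 4, nat_lit 4, nat_lit 2, nat_lit 7, nat_lit 7, nat_lit 7, nat_lit 7, nat_lit 7, nat_lit 7, nat_lit 7, nat_lit 7, nat_lit 7, nat_lit 7, nat_lit 7, nat_lit 7, nat_lit 7, nat_lit 5, nat_lit 5, nat_lit 5, nat_lit 5, nat_lit 6, nat_lit 6, nat_lit 2, nat_lit 7, nat_lit 7, nat_lit 7, nat_lit 7, nat_lit 7, nat_lit 7, nat_lit 7, nat_lit 7, nat_lit 7, nat_lit 7, nat_lit 7, nat_lit 7, nat_lit 7, nat_lit 4, nat_lit 1, nat_lit 6,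 nat_lit 4, nat_lit 6, nat_lit 5, nat_lit 5, nat_lit 5, nat_lit 5, nat_lit 4, nat_lit 3, nat_lit 6, nat_lit 6, nat_lit 6, nat_lit 6, nat_lit 6, nat_lit 6, nat_lit 3, nat_lit 3, nat_lit 3, nat_lit 3, nat_lit 5, nat_lit 4, nat_lit 6, nat_lit 0, nat_lit 5, nat_lit 2, nat_lit 4, nat_lit 4, nat_lit 4, nat_lit 4, nat_lit 4, nat_lit 4, nat_lit 7, nat_lit 7, nat_lit 7, nat_lit 7, nat_lit 7, nat_lit 7, nat_lit 7, nat_lit 7, nat_lit 7, nat_lit 7, nat_lit 7, nat_lit 7, nat_lit 7])) (TL.node (TL.leaf [nat_lit 3, nat_lit 4, nat_lit 4, nat_lit 4, nat_lit 4, nat_lit 4, nat_lit 4, nat_lit 7, nat_lit 7, nat_lit 7, nat_lit 7, nat_lit 7, nat_lit 7, nat_lit 7, nat_lit 7, nat_lit 7, nat_lit 7, nat_lit 7, nat_lit 7, nat_lit 7, nat_lit 5, nat_lit 5, nat_lit 5, nat_lit 5, nat_lit 3, nat_lit 3, nat_lit 3, nat_lit 3, nat_lit 0, nat_lit 0, nat_lit 1, nat_lit 3, nat_lit 2, nat_lit 2, nat_lit 4, nat_lit 4, nat_lit 4, nat_lit 4, nat_lit 4, nat_lit 4, nat_lit 5, nat_lit 5, nat_lit 5, nat_lit 5, nat_lit 1, nat_lit 2, nat_lit 2, nat_lit 6, nat_lit 4, nat_lit 0, nat_lit 2, nat_lit 2, nat_lit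 7, nat_lit 5, nat_lit 5, nat_lit 5, nat_lit 5, nat_lit 1, nat_lit 6, nat_lit 6, nat_lit 6, nat_lit 6, nat_lit 6, nat_lit 6, nat_lit 0, nat_lit 0, nat_lit 3]) (TL.leaf [nat_lit 4, nat_lit 4, nat_lit 4, nat_lit 4, nat_lit 4, nat_lit 4, nat_lit 2, nat_lit 7, nat_lit 7, nat_lit 7, nat_lit 7, nat_lit 7, nat_lit 7, nat_lit 7, nat_lit 7, nat_lit 7, nat_lit 7, nat_lit 7, nat_lit 7, nat_lit 7, nat_lit 3, nat_lit 7, nat_lit 6, nat_lit 0, nat_lit 7, nat_lit 7, nat_lit 7, nat_lit 7, nat_lit 7, nat_lit 7, nat_lit 7, nat_lit 7, nat_lit 7, nat_lit 7, nat_lit 7, nat_lit 7, nat_lit 7, nat_lit 3, nat_lit 5, nat_lit 5, nat_lit 5, nat_lit 5, nat_lit 0, nat_lit 0, nat_lit 6, nat_lit 6, nat_lit 6, nat_lit 6, nat_lit 6, nat_lit 6, nat_lit 4, nat_lit 4, nat_lit 4, nat_lit 4, nat_lit 4, nat_lit 4, nat_lit 6, nat_lit 5, nat_lit 4, nat_lit 6]))) (TL.node (TL.node (TL.leaf [nat_lit 1, nat_lit 7, nat_lit 0, nat_lit 0, nat_lit 3, nat_lit 3, nat_lit 3, nat_lit 3, nat_lit 0, nat_lit 2, nat_lit 2, nat_lit 4, nat_lit 4, nat_lit 4, nat_lit 4, nat_lit 4, nat_lit 4, nat_lit 2, nat_lit 7,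 nat_lit 7, nat_lit 7, nat_lit 7, nat_lit 7, nat_lit 7, nat_lit 7, nat_lit 7, nat_lit 7, nat_lit 7, nat_lit 7, nat_lit 7, nat_lit 7, nat_lit 4, nat_lit 1, nat_lit 6, nat_lit 4, nat_lit 4, nat_lit 4, nat_lit 4, nat_lit 4, nat_lit 4, nat_lit 6, nat_lit 5, nat_lit 0, nat_lit 0, nat_lit 4, nat_lit 5, nat_lit 5, nat_lit 5, nat_lit 5, nat_lit 7, nat_lit 2, nat_lit 2, nat_lit 4, nat_lit 1, nat_lit 4, nat_lit 4, nat_lit 4, nat_lit 4, nat_lit 4, nat_lit 4, nat_lit 5, nat_lit 0, nat_lit 6, nat_lit 1]) (TL.leaf [nat_lit 6, nat_lit 6, nat_lit 6, nat_lit 6, nat_lit 6, nat_lit 6, nat_lit 1, nat_lit 4, nat_lit 4, nat_lit 4, nat_lit 4, nat_lit 4, nat_lit 4, nat_lit 7, nat_lit 2, nat_lit 2, nat_lit 6, nat_lit 6, nat_lit 6, nat_lit 6, nat_lit 6, nat_lit 6, nat_lit 1, nat_lit 0, nat_lit 3, nat_lit 0, nat_lit 7, nat_lit 7, nat_lit 7, nat_lit 7, nat_lit 7, nat_lit 7, nat_lit 7, nat_lit 7, nat_lit 7, nat_lit 7, nat_lit 7, nat_lit 7, nat_lit 7, nat_lit 5, nat_lit 0, nat_lit 5, nat_lit 1, nat_lit 2, nat_lit 0, nat_lit 0, nat_lit 4, nat_lit 4, nat_lit 4, nat_lit 4, nat_lit 4, nat_lit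 4, nat_lit 5, nat_lit 5, nat_lit 5, nat_lit 5, nat_lit 5, nat_lit 5, nat_lit 5, nat_lit 5, nat_lit 7, nat_lit 0, nat_lit 0, nat_lit 3, nat_lit 3, nat_lit 3, nat_lit 3, nat_lit 5, nat_lit 5, nat_lit 6])) (TL.leaf [nat_lit 7, nat_lit 7, nat_lit 7, nat_lit 7, nat_lit 7, nat_lit 7, nat_lit 7, nat_lit 7, nat_lit 7, nat_lit 7, nat_lit 7, nat_lit 7, nat_lit 7, nat_lit 6, nat_lit 5, nat_lit 7, nat_lit 0, nat_lit 0, nat_lit 3, nat_lit 3, nat_lit 3, nat_lit 3, nat_lit 5, nat_lit 5, nat_lit 5, nat_lit 5, nat_lit 6, nat_lit 6, nat_lit 6, nat_lit 6, nat_lit 6, nat_lit 6, nat_lit 7, nat_lit 4, nat_lit 4, nat_lit 4, nat_lit 4, nat_lit 4, nat_lit 4, nat_lit 6, nat_lit 5, nat_lit 0, nat_lit 0, nat_lit 4, nat_lit 5, nat_lit 5, nat_lit 5, nat_lit 5, nat_lit 4, nat_lit 4, nat_lit 4, nat_lit 4, nat_lit 4, nat_lit 4, nat_lit 1, nat_lit 4, nat_lit 4, nat_lit 4, nat_lit 4, nat_lit 4, nat_lit 4, nat_lit 4, nat_lit 4, nat_lit 4, nat_lit 4, nat_lit 4, nat_lit 4, nat_lit 5, nat_lit 5, nat_lit 5])))) (TL.node (TL.node (TL.node (TL.node (TL.leaf [nat_lit 6, nat_lit 6, nat_lit 6, nat_lit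 6, nat_lit 6, nat_lit 6, nat_lit 1, nat_lit 4, nat_lit 4, nat_lit 4, nat_lit 4, nat_lit 4, nat_lit 4, nat_lit 7, nat_lit 2, nat_lit 2, nat_lit 6, nat_lit 6, nat_lit 6, nat_lit 6, nat_lit 6, nat_lit 6, nat_lit 1, nat_lit 0, nat_lit 4, nat_lit 4, nat_lit 4, nat_lit 4, nat_lit 4, nat_lit 4, nat_lit 2, nat_lit 7, nat_lit 7, nat_lit 7, nat_lit 7, nat_lit 7, nat_lit 7, nat_lit 7, nat_lit 7, nat_lit 7, nat_lit 7, nat_lit 7, nat_lit 7, nat_lit 7, nat_lit 4, nat_lit 1, nat_lit 6, nat_lit 5, nat_lit 1, nat_lit 7, nat_lit 7, nat_lit 7, nat_lit 7, nat_lit 7, nat_lit 7, nat_lit 7, nat_lit 7, nat_lit 7, nat_lit 7, nat_lit 7, nat_lit 7, nat_lit 7, nat_lit 3, nat_lit 7, nat_lit 0, nat_lit 0, nat_lit 2, nat_lit 2, nat_lit 5, nat_lit 5, nat_lit 5, nat_lit 5, nat_lit 4]) (TL.leaf [nat_lit 5, nat_lit 6, nat_lit 3, nat_lit 3, nat_lit 3, nat_lit 3, nat_lit 5, nat_lit 7, nat_lit 2, nat_lit 2, nat_lit 5, nat_lit 6, nat_lit 6, nat_lit 6, nat_lit 6, nat_lit 6, nat_lit 6, nat_lit 4, nat_lit 4, nat_lit 4, nat_lit 4, nat_lit 4, nat_lit 4, nat_lit 1, nat_lit 7, nat_lit 5, nat_lit 4,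 nat_lit 5, nat_lit 7, nat_lit 3, nat_lit 4, nat_lit 4, nat_lit 4, nat_lit 4, nat_lit 4, nat_lit 4, nat_lit 3, nat_lit 3, nat_lit 3, nat_lit 3, nat_lit 4, nat_lit 4, nat_lit 4, nat_lit 4, nat_lit 4, nat_lit 4, nat_lit 1])) (TL.node (TL.leaf [nat_lit 5, nat_lit 0, nat_lit 0, nat_lit 4, nat_lit 4, nat_lit 4, nat_lit 4, nat_lit 4, nat_lit 4, nat_lit 0, nat_lit 0, nat_lit 5, nat_lit 5, nat_lit 5, nat_lit 5, nat_lit 3, nat_lit 3, nat_lit 3, nat_lit 3, nat_lit 0, nat_lit 0, nat_lit 1, nat_lit 4, nat_lit 4, nat_lit 4, nat_lit 4, nat_lit 4, nat_lit 4, nat_lit 2, nat_lit 7, nat_lit 7, nat_lit 7, nat_lit 7, nat_lit 7, nat_lit 7, nat_lit 7, nat_lit 7, nat_lit 7, nat_lit 7, nat_lit 7, nat_lit 7, nat_lit 7, nat_lit 4, nat_lit 1, nat_lit 6, nat_lit 7, nat_lit 2, nat_lit 2, nat_lit 6, nat_lit 5, nat_lit 5, nat_lit 5, nat_lit 5, nat_lit 7, nat_lit 5, nat_lit 7, nat_lit 7, nat_lit 7, nat_lit 7, nat_lit 7, nat_lit 7, nat_lit 7, nat_lit 7, nat_lit 7, nat_lit 7, nat_lit 7, nat_lit 7, nat_lit 7, nat_lit 7, nat_lit 7, nat_lit 7, nat_lit 7, nat_lit 7, nat_lit 7, nat_lit 7, nat_lit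 7, nat_lit 7, nat_lit 7, nat_lit 7, nat_lit 7, nat_lit 7]) (TL.leaf [nat_lit 3, nat_lit 7, nat_lit 0, nat_lit 7, nat_lit 7, nat_lit 7, nat_lit 7, nat_lit 7, nat_lit 7, nat_lit 7, nat_lit 7, nat_lit 7, nat_lit 7, nat_lit 7, nat_lit 7, nat_lit 7, nat_lit 3, nat_lit 7, nat_lit 7, nat_lit 7, nat_lit 7, nat_lit 7, nat_lit 7, nat_lit 7, nat_lit 7, nat_lit 7, nat_lit 7, nat_lit 7, nat_lit 7, nat_lit 7, nat_lit 7, nat_lit 7, nat_lit 7, nat_lit 7, nat_lit 7, nat_lit 7, nat_lit 7, nat_lit 7, nat_lit 7, nat_lit 7, nat_lit 7, nat_lit 7, nat_lit 7, nat_lit 3, nat_lit 3, nat_lit 3, nat_lit 3, nat_lit 1, nat_lit 2, nat_lit 0, nat_lit 0, nat_lit 3, nat_lit 0, nat_lit 7, nat_lit 7, nat_lit 7, nat_lit 7, nat_lit 7, nat_lit 7, nat_lit 7, nat_lit 7, nat_lit 7, nat_lit 7, nat_lit 7, nat_lit 7, nat_lit 7, nat_lit 1, nat_lit 4, nat_lit 4, nat_lit 4, nat_lit 4, nat_lit 4, nat_lit 4, nat_lit 2, nat_lit 7, nat_lit 7, nat_lit 7, nat_lit 7, nat_lit 7, nat_lit 7, nat_lit 7, nat_lit 7, nat_lit 7, nat_lit 7, nat_lit 7, nat_lit 7, nat_lit 7, nat_lit 3, nat_lit 6, nat_lit 6, nat_lit 6,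 nat_lit 6, nat_lit 6, nat_lit 6, nat_lit 3, nat_lit 3, nat_lit 3, nat_lit 3, nat_lit 4, nat_lit 3]))) (TL.node (TL.node (TL.leaf [nat_lit 0, nat_lit 0, nat_lit 1, nat_lit 6, nat_lit 2, nat_lit 7, nat_lit 7, nat_lit 7, nat_lit 7, nat_lit 7, nat_lit 7, nat_lit 7, nat_lit 7, nat_lit 7, nat_lit 7, nat_lit 7, nat_lit 7, nat_lit 7, nat_lit 4, nat_lit 1, nat_lit 6, nat_lit 2, nat_lit 0, nat_lit 0, nat_lit 4, nat_lit 4, nat_lit 4, nat_lit 4, nat_lit 4, nat_lit 4, nat_lit 6, nat_lit 6, nat_lit 6, nat_lit 6, nat_lit 6, nat_lit 6, nat_lit 2, nat_lit 3, nat_lit 4, nat_lit 3, nat_lit 1, nat_lit 4, nat_lit 4, nat_lit 4, nat_lit 4, nat_lit 4, nat_lit 4, nat_lit 6, nat_lit 7, nat_lit 5, nat_lit 3, nat_lit 3, nat_lit 3, nat_lit 3, nat_lit 5, nat_lit 5, nat_lit 5, nat_lit 5]) (TL.leaf [nat_lit 4, nat_lit 4, nat_lit 4, nat_lit 4, nat_lit 4, nat_lit 4, nat_lit 2, nat_lit 7, nat_lit 7, nat_lit 7, nat_lit 7, nat_lit 7, nat_lit 7, nat_lit 7, nat_lit 7, nat_lit 7, nat_lit 7, nat_lit 7, nat_lit 7, nat_lit 7, nat_lit 5, nat_lit 5, nat_lit 5, nat_lit 5, nat_lit 6, nat_lit 6, nat_lit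 4, nat_lit 2, nat_lit 2, nat_lit 6, nat_lit 4, nat_lit 0, nat_lit 2, nat_lit 2, nat_lit 7, nat_lit 2, nat_lit 2, nat_lit 4, nat_lit 1, nat_lit 0, nat_lit 3, nat_lit 5, nat_lit 6, nat_lit 7, nat_lit 2, nat_lit 2, nat_lit 0])) (TL.leaf [nat_lit 4, nat_lit 4, nat_lit 4, nat_lit 4, nat_lit 4, nat_lit 4, nat_lit 6, nat_lit 6, nat_lit 6, nat_lit 6, nat_lit 6, nat_lit 6, nat_lit 6, nat_lit 6, nat_lit 6, nat_lit 6, nat_lit 6, nat_lit 6, nat_lit 5, nat_lit 4, nat_lit 6, nat_lit 5, nat_lit 5, nat_lit 5, nat_lit 5, nat_lit 4, nat_lit 7, nat_lit 2, nat_lit 2, nat_lit 4, nat_lit 2, nat_lit 0, nat_lit 0, nat_lit 6, nat_lit 7, nat_lit 4, nat_lit 5, nat_lit 0, nat_lit 0, nat_lit 2, nat_lit 5, nat_lit 4]))) (TL.node (TL.node (TL.node (TL.leaf [nat_lit 7, nat_lit 0, nat_lit 0, nat_lit 3, nat_lit 3, nat_lit 3, nat_lit 3, nat_lit 2, nat_lit 2, nat_lit 6, nat_lit 4, nat_lit 3, nat_lit 7, nat_lit 6, nat_lit 3, nat_lit 3, nat_lit 3, nat_lit 3, nat_lit 5, nat_lit 5, nat_lit 5, nat_lit 5, nat_lit 7, nat_lit 7, nat_lit 7, nat_lit 7, nat_lit 7, nat_lit 7, nat_lit 7, nat_lit 7, nat_lit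 7, nat_lit 7, nat_lit 7, nat_lit 7, nat_lit 7, nat_lit 0, nat_lit 6]) (TL.leaf [nat_lit 7, nat_lit 0, nat_lit 0, nat_lit 3, nat_lit 3, nat_lit 3, nat_lit 3, nat_lit 2, nat_lit 2, nat_lit 6, nat_lit 5, nat_lit 6, nat_lit 6, nat_lit 6, nat_lit 6, nat_lit 6, nat_lit 6, nat_lit 4, nat_lit 4, nat_lit 4, nat_lit 4, nat_lit 4, nat_lit 4, nat_lit 5, nat_lit 5, nat_lit 5, nat_lit 5, nat_lit 6, nat_lit 6, nat_lit 2, nat_lit 7, nat_lit 7, nat_lit 7, nat_lit 7, nat_lit 7, nat_lit 7, nat_lit 7, nat_lit 7, nat_lit 7, nat_lit 7, nat_lit 7, nat_lit 7, nat_lit 7, nat_lit 3, nat_lit 7, nat_lit 6, nat_lit 3, nat_lit 3, nat_lit 3, nat_lit 3, nat_lit 2, nat_lit 2, nat_lit 6, nat_lit 4, nat_lit 1, nat_lit 3, nat_lit 7, nat_lit 3, nat_lit 3, nat_lit 3, nat_lit 3, nat_lit 6, nat_lit 6, nat_lit 6, nat_lit 6, nat_lit 6, nat_lit 6, nat_lit 0, nat_lit 3])) (TL.leaf [nat_lit 4, nat_lit 6, nat_lit 6, nat_lit 6, nat_lit 6, nat_lit 6, nat_lit 6, nat_lit 5, nat_lit 5, nat_lit 5, nat_lit 5, nat_lit 2, nat_lit 0, nat_lit 0, nat_lit 5, nat_lit 6, nat_lit 4, nat_lit 4, nat_lit 4, nat_lit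 4, nat_lit 4, nat_lit 4, nat_lit 7, nat_lit 5, nat_lit 5, nat_lit 5, nat_lit 5, nat_lit 7, nat_lit 7, nat_lit 7, nat_lit 7, nat_lit 7, nat_lit 7, nat_lit 7, nat_lit 7, nat_lit 7, nat_lit 7, nat_lit 7, nat_lit 7, nat_lit 7, nat_lit 0, nat_lit 4, nat_lit 6, nat_lit 6, nat_lit 6, nat_lit 6, nat_lit 6, nat_lit 6, nat_lit 5, nat_lit 5, nat_lit 5, nat_lit 5, nat_lit 4, nat_lit 6, nat_lit 5, nat_lit 5, nat_lit 5, nat_lit 5, nat_lit 1, nat_lit 4, nat_lit 4, nat_lit 4, nat_lit 4, nat_lit 4, nat_lit 4, nat_lit 7, nat_lit 0, nat_lit 0, nat_lit 2])) (TL.node (TL.node (TL.leaf [nat_lit 4, nat_lit 6, nat_lit 6, nat_lit 6, nat_lit 6, nat_lit 6, nat_lit 6, nat_lit 5, nat_lit 5, nat_lit 5, nat_lit 5, nat_lit 2, nat_lit 2, nat_lit 0, nat_lit 5, nat_lit 6, nat_lit 4, nat_lit 4, nat_lit 4, nat_lit 4, nat_lit 4, nat_lit 4, nat_lit 7, nat_lit 5, nat_lit 5, nat_lit 5, nat_lit 5, nat_lit 7, nat_lit 7, nat_lit 7, nat_lit 7, nat_lit 7, nat_lit 7, nat_lit 7, nat_lit 7, nat_lit 7, nat_lit 7, nat_lit 7, nat_lit 7, nat_lit 7, nat_lit 0, nat_lit 4, nat_lit 6, nat_lit 6, nat_lit 6, nat_lit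 6, nat_lit 6, nat_lit 6, nat_lit 5, nat_lit 5, nat_lit 5, nat_lit 5, nat_lit 1, nat_lit 4, nat_lit 4, nat_lit 4, nat_lit 4, nat_lit 4, nat_lit 4, nat_lit 6, nat_lit 3, nat_lit 3, nat_lit 3, nat_lit 3, nat_lit 2, nat_lit 3, nat_lit 6, nat_lit 0, nat_lit 6, nat_lit 6, nat_lit 6, nat_lit 6, nat_lit 6, nat_lit 6, nat_lit 6, nat_lit 6, nat_lit 6, nat_lit 6, nat_lit 6, nat_lit 6]) (TL.leaf [nat_lit 1, nat_lit 7, nat_lit 5, nat_lit 4, nat_lit 3, nat_lit 3, nat_lit 3, nat_lit 3, nat_lit 0, nat_lit 0, nat_lit 4, nat_lit 3, nat_lit 0, nat_lit 0, nat_lit 7, nat_lit 7, nat_lit 7, nat_lit 7, nat_lit 7, nat_lit 7, nat_lit 7, nat_lit 7, nat_lit 7, nat_lit 7, nat_lit 7, nat_lit 7, nat_lit 7, nat_lit 4, nat_lit 6, nat_lit 6, nat_lit 6, nat_lit 6, nat_lit 6, nat_lit 6, nat_lit 5, nat_lit 5, nat_lit 5, nat_lit 5, nat_lit 1, nat_lit 5, nat_lit 6, nat_lit 4, nat_lit 4, nat_lit 4, nat_lit 4, nat_lit 4, nat_lit 4, nat_lit 2, nat_lit 2, nat_lit 0, nat_lit 4, nat_lit 4, nat_lit 4, nat_lit 4, nat_lit 4, nat_lit 4, nat_lit 4, nat_lit 4, nat_lit 4, nat_lit 4, nat_lit 4, nat_lit 4,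 nat_lit 3, nat_lit 3, nat_lit 3, nat_lit 3, nat_lit 7, nat_lit 7, nat_lit 7, nat_lit 7, nat_lit 7, nat_lit 7, nat_lit 7, nat_lit 7, nat_lit 7, nat_lit 7, nat_lit 7, nat_lit 7, nat_lit 7, nat_lit 5, nat_lit 5, nat_lit 5, nat_lit 5, nat_lit 6, nat_lit 0, nat_lit 5, nat_lit 5, nat_lit 5, nat_lit 5, nat_lit 0, nat_lit 4, nat_lit 4, nat_lit 4, nat_lit 4, nat_lit 4, nat_lit 4, nat_lit 2])) (TL.leaf [nat_lit 0, nat_lit 0, nat_lit 1, nat_lit 6, nat_lit 4, nat_lit 3, nat_lit 3, nat_lit 3, nat_lit 3, nat_lit 2, nat_lit 3, nat_lit 4, nat_lit 4, nat_lit 4, nat_lit 4, nat_lit 4, nat_lit 4, nat_lit 6, nat_lit 0, nat_lit 0, nat_lit 2, nat_lit 4, nat_lit 4, nat_lit 4, nat_lit 4, nat_lit 4, nat_lit 4, nat_lit 6, nat_lit 6, nat_lit 6, nat_lit 6, nat_lit 6, nat_lit 6, nat_lit 6, nat_lit 6, nat_lit 6, nat_lit 6, nat_lit 6, nat_lit 6, nat_lit 5, nat_lit 1, nat_lit 5, nat_lit 5, nat_lit 5, nat_lit 5, nat_lit 2, nat_lit 3, nat_lit 6, nat_lit 1, nat_lit 7, nat_lit 7, nat_lit 7, nat_lit 7, nat_lit 7, nat_lit 7, nat_lit 7, nat_lit 7, nat_lit 7, nat_lit 7, nat_lit 7, nat_lit 7,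 nat_lit 7, nat_lit 0, nat_lit 0, nat_lit 5, nat_lit 4, nat_lit 4, nat_lit 4, nat_lit 4, nat_lit 4, nat_lit 4, nat_lit 7, nat_lit 7, nat_lit 7, nat_lit 7, nat_lit 7, nat_lit 7, nat_lit 7, nat_lit 7, nat_lit 7, nat_lit 7, nat_lit 7, nat_lit 7, nat_lit 7])))))
noncomputable def W (i : ℕ) : List ℕ := TL.get W_t i
def B : List ℕ := [nat_lit 17, nat_lit 1, nat_lit 16, nat_lit 14, nat_lit 12, nat_lit 0, nat_lit 23]
noncomputable def q (j : ℕ) : Cfsg.M24 := ev (Spor.fam Spor.c24) (W j)
noncomputable def Q (j : ℕ) : ℕ → ℕ := trF (Spor.TP Spor.c24) (W j)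
theorem md : Md Spor.gp 24 B q Q 27 := (md24).words' (by decide +kernel)
def I (i : ℕ) : ℕ := Nat.land (Nat.shiftRight (nat_lit 0x5515857000581645a16c5c17400000000000000000000000000000000000000000000000000000000000000000000000000000000000000000000000000000000000000000000000000000000000000000000000000000000000000000000000000000000000000000000000000000000000000000000000000000000000000000000000000000000000000000000000000000000000000000013400000000004b000001384f140511485315000000000000000000000000000000000000000000000000000000000000000000000000000000000000000000000000000000000000000000000000000000000000000000000000000000000000000000000000000000000000000000000000000000000000000000000000000000000000000000000000000000000000000000000000000000000000000000000000110000004110800000451184712049128000000000000000000000000000000000000000000000000000000000000000000000000000000000000000000000000000000000000000000000000000000000000000000e0390e83b0f03d0f83f1000000000000000000000000000000000000000000000000000000000000000000000000000000000000000000000000000000000000000000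00000000001300010c000003700000000000000000000000000000000000000000000000000000000000000000000000000000000000000000000000000000000000000000000000000000000000000000000000001300010c00000360b400000000000000000000000000000000000000000000000000000000000000000000000000000000000000000000000000000000000000000000000000000000000000000000001300010c00000350b024000000000000000000000000000000000000000000000000000000000000000000000000000000000000000000000000000000000000000000000000000000000000000000001300010c00000340ac23070000000000000000000000000000000000000000000000000000000000000000000000000000000000000000000000000000000000000000000000000000000000000000001300010c00000330a82206c150000000000000000000000000000000000000000000000000000000000000000000000000000000000000000000000000000000000000000000000000000000000000001300010c00000320a4210681403c0000000000000000000000000000000000000000000000000000000000000000000000000000000000000000000000000000000000000000000000000000000000001300010c00000310a020064130380a00000000000000000000000000000000000000000000000000000000000000000000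000000000000000000000000000000000000000000000000000000000000001300010c000003009c1f060120340901800000000000000000000000000000000000000000000000000000000000000000000000000000000000000000000000000000000000000000000000000000001300010c000002f0981e05c110300801403000000000000000000000000000000000000000000000000000000000000000000000000000000000000000000000000000000000000000000000000000001300010c000002e0941d0581002c0701002004000000000000000000000000000000000000000000000000000000000000000000000000000000000000000000000000000000000000000000000000001300010c00000000000000000000000000000000) (Nat.mul (nat_lit 10) i)) (nat_lit 1023)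
def Ru_t1 : TN := (TN.node (TN.node (TN.node (TN.node (TN.leaf (nat_lit 0)) (TN.leaf (nat_lit 0x2c10000000002c1082))) (TN.leaf (nat_lit 0x108000000000108082))) (TN.node (TN.node (TN.leaf (nat_lit 0x46000000000046082)) (TN.leaf (nat_lit 0xe0840000000003850c2))) (TN.leaf (nat_lit 0x20ca0000000000ca0c2)))) (TN.node (TN.node (TN.node (TN.leaf (nat_lit 0x84000000000084082)) (TN.leaf (nat_lit 0xc047209000000000303142))) (TN.leaf (nat_lit 0x109000000000109082))) (TN.node (TN.node (TN.leaf (nat_lit 0x10c70000000000c70c2)) (TN.leaf (nat_lit 0x401083105209000000000406202))) (TN.leaf (nat_lit 0x2c20c42090000000002c9182)))))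
def Ru_t2 : TN := (TN.node (TN.node (TN.node (TN.node (TN.leaf (nat_lit 0x43000000000043082)) (TN.leaf (nat_lit 0xc0420c61c800000000030d1c2))) (TN.leaf (nat_lit 0x4000000000208042))) (TN.node (TN.node (TN.leaf (nat_lit 0x146000000000146082)) (TN.leaf (nat_lit 0x382000000000381082))) (TN.leaf (nat_lit 0x51ca0000000001ca0c2)))) (TN.node (TN.node (TN.node (TN.leaf (nat_lit 0x85000000000085082)) (TN.leaf (nat_lit 0x520900000000000f0c1))) (TN.leaf (nat_lit 0x42090000000002090c2))) (TN.node (TN.node (TN.leaf (nat_lit 0x20c40000000001c70c2)) (TN.leaf (nat_lit 0x401085000000000402102))) (TN.leaf (nat_lit 0x2c41462090000000002c5182)))))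
def Ru_t3 : TN := (TN.node Ru_t1 Ru_t2)
def Ru_t4 : TN := (TN.node (TN.node (TN.node (TN.node (TN.leaf (nat_lit 0x42000000000042082)) (TN.leaf (nat_lit 0xc04720a000000000309142))) (TN.leaf (nat_lit 0x188000000000188082))) (TN.node (TN.node (TN.leaf (nat_lit 0x10c60000000000c60c2)) (TN.leaf (nat_lit 0xe0830000000003830c2))) (TN.leaf (nat_lit 0x14a00000000014a082)))) (TN.node (TN.node (TN.node (TN.leaf (nat_lit 0x104002)) (TN.leaf (nat_lit 0x301000000000301082))) (TN.leaf (nat_lit 0x44189000000000189102))) (TN.node (TN.node (TN.leaf (nat_lit 0x21470000000001470c2)) (TN.leaf (nat_lit 0x401000000000404082))) (TN.leaf (nat_lit 0x2c10841c90000000002c7182)))))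
def Ru_t5 : TN := (TN.node (TN.node (TN.node (TN.node (TN.leaf (nat_lit 798722)) (TN.leaf (nat_lit 0xc04314a000000000305142))) (TN.leaf (nat_lit 0x10890000000000890c2))) (TN.node (TN.node (TN.leaf (nat_lit 0x47000000000047082)) (TN.leaf (nat_lit 0x4010c4189000000000409182))) (TN.leaf (nat_lit 0x20c414624a00000000024a1c2)))) (TN.node (TN.node (TN.node (TN.leaf (nat_lit 0x105000000000105082)) (TN.leaf (nat_lit 0xe0431461ca0000000003871c2))) (TN.leaf (nat_lit 0x4a00000000004a082))) (TN.node (TN.leaf (nat_lit 0x10880000000000880c2)) (TN.leaf (nat_lit 0x2c20000000002c3082)))))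
def Ru_t6 : TN := (TN.node Ru_t4 Ru_t5)
def Ru_t7 : TN := (TN.node Ru_t3 Ru_t6)
def Ru_t8 : TN := (TN.node (TN.node (TN.node (TN.node (TN.leaf (nat_lit 266242)) (TN.leaf (nat_lit 0x3010831c824a00000000030a202))) (TN.leaf (nat_lit 0x41480000000001480c2))) (TN.node (TN.node (TN.leaf (nat_lit 0x86000000000086082)) (TN.leaf (nat_lit 0xe0450000000003840c2))) (TN.leaf (nat_lit 0x10a00000000010a082)))) (TN.node (TN.node (TN.node (TN.leaf (nat_lit 0xc40000000000c4082)) (TN.leaf (nat_lit 0x302000000000302082))) (TN.leaf (nat_lit 0x41490000000001490c2))) (TN.node (TN.node (TN.leaf (nat_lit 0x11070000000001070c2)) (TN.leaf (nat_lit 0x401084000000000405102))) (TN.leaf (nat_lit 0xb0421090000000002c8142)))))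
def Ru_t9 : TN := (TN.node (TN.node (TN.node (TN.node (TN.leaf (nat_lit 0x83000000000083082)) (TN.leaf (nat_lit 0xc0831051c824a000000000306242))) (TN.leaf (nat_lit 0x49000000000049082))) (TN.node (TN.node (TN.leaf (nat_lit 0x1000000000186042)) (TN.leaf (nat_lit 0x40108310518824a00000000040a282))) (TN.leaf (nat_lit 0x20c620a00000000020a142)))) (TN.node (TN.node (TN.node (TN.leaf (nat_lit 0xc50000000000c5082)) (TN.leaf (nat_lit 0xe04218824a00000000038f1c2))) (TN.leaf (nat_lit 0x4000000000249042))) (TN.node (TN.node (TN.leaf (nat_lit 0x48000000000048082)) (TN.leaf (nat_lit 0x100440000000004010c2))) (TN.leaf (nat_lit 0xb0440000000002c40c2)))))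
def Ru_t10 : TN := (TN.node Ru_t8 Ru_t9)
def Ru_t11 : TN := (TN.node (TN.node (TN.node (TN.node (TN.leaf (nat_lit 532482)) (TN.leaf (nat_lit 0x431061c800000000000d181))) (TN.leaf (nat_lit 0x10c41c80000000001c8142))) (TN.node (TN.node (TN.leaf (nat_lit 0x106000000000106082)) (TN.leaf (nat_lit 0x381000000000382082))) (TN.leaf (nat_lit 0x4218a00000000018a102)))) (TN.node (TN.node (TN.node (TN.leaf (nat_lit 0x45000000000045082)) (TN.leaf (nat_lit 0x38114600000000038a102))) (TN.leaf (nat_lit 0x10841c90000000001c9142))) (TN.node (TN.node (TN.leaf (nat_lit 0x84187000000000187102)) (TN.leaf (nat_lit 0x100441462090000000004031c2))) (TN.leaf (nat_lit 0xb0841480000000002c6142)))))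
def Ru_t12 : TN := (TN.node (TN.node (TN.node (TN.node (TN.leaf (nat_lit 0x44000000000044082)) (TN.leaf (nat_lit 0x303146000000000304102))) (TN.leaf (nat_lit 0xc90000000000c9082))) (TN.node (TN.node (TN.leaf (nat_lit 0x87000000000087082)) (TN.leaf (nat_lit 0x4020c4149000000000408182))) (TN.leaf (nat_lit 0x200000000028a042)))) (TN.node (TN.node (TN.node (TN.leaf (nat_lit 0x145002)) (TN.leaf (nat_lit 0xe04210a000000000386142))) (TN.leaf (nat_lit 0x8a00000000008a082))) (TN.node (TN.leaf (nat_lit 0x10c80000000000c80c2)) (TN.leaf (nat_lit 0x2c10830000000002c2102)))))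
def Ru_t13 : TN := (TN.node Ru_t11 Ru_t12)
def Ru_t14 : TN := (TN.node Ru_t10 Ru_t13)
def Ru_t : TN := (TN.node Ru_t7 Ru_t14)
noncomputable def Ru (i : ℕ) : ℕ := TN.get Ru_t i
def D_t1 : TN := (TN.node (TN.node (TN.node (TN.node (TN.leaf (nat_lit 0x1000000000000000000000001000000000000000000000001)) (TN.leaf (nat_lit 0x10000000100000000000000000000000100000000000000000000000000000000000000000000000000000000000000000000000000000000000000000000000000000000000000000000000000000000000000000000000000000000000000000000000000000000000000000000000000000000000000000000000000000000000000000000000000000000000000000000000000000001000000010000000000000000000000010000000100000001000000010000000000000001000000000000000000000000000000000000000100000000000000010000000100000001000000000000000100000001000000000000000100000000000000010000000000000000000000000000000000000000000000000000000000000000000000010000000000000001000000000000000000000001000000010000000000000001000000010000000100000001000000000000000100000000000000010000000000000000000000000000000000000041))) (TN.leaf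 (nat_lit 0x100000000000000000000000000000000000000000000000000000000000000000000000000000000000000000000000000000000000000000000000000000000000000000000000000000000000000000000000000000000000000000000000000000000000000000000000000000000000000010000000000000000000000000000000100000000000000000000000000000000000000000000000000000000000000000000000000000000000000000000000000000000000000000000000000000021))) (TN.node (TN.leaf (nat_lit 0x100000000000000000000000000000000000000000000000000000000000000000000000000000000000000000000000000000000000000000000000000000000000000000000000000000011)) (TN.leaf (nat_lit 0x1000000000000000000000000000000000000000000000000000000000000000000000000000000000000000000000000000000000000000000000000000000000000000000000000000000000000000000000000000000000000000000000000000000000000000000000000000000000000000000000000000000000000000000000000000000000000000000000000000000000000000000000000000000000000000000000000000000000000000000000000000000000000000000000000000000000000000100000000000000010000000100000000000000000000000000000001000000000000000000000000000000000000000000000000000000000000000000000000000000000000000000000000000000000000000000000000000000000000000000000000000000010000000000000001000000000000000000000001000000000000000000000000000000010000000000000000000000000000000000000031))))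 (TN.node (TN.node (TN.leaf (nat_lit 0x1000000000000000000000000000000000000000100000000000000010000000000000000000000000000000000000001000000000000000000000009)) (TN.leaf (nat_lit 0x100000001000000010000000000000000000000000000000000000000000000000000000000000000000000000000000000000000000000000000000000000000000000000000000000000000000000000000000000000000000000010000000000000000000000000000000000000000000000000000000000000000000000000000000000000001000000000000000000000001000000000000000000000000000000000000000000000000000000000000000000000000000000000000000000000029))) (TN.node (TN.leaf (nat_lit 0x10000000000000000000000000000000000000000000000000000000000000000000000000000000000000000000000000000000000000000000000000000000000000000000000000000000000000000000000000000000000000000000000000000000000000000000000000000000100000000000000000000000000000000000000000000000000000000000000000000000000000000000000000000000000000000000000000000000000000000000000000000000000000000000000000000000000000000000000000000000000000000000000000000000000000000000000000000000000000000000000000000000000000001000000010000000000000000000000000000000100000001000000000000000000000000000000010000000000000000000000000000000000000000000000000000000000000000000000000000000100000019))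 (TN.leaf (nat_lit 0x10000000000000001000000000000000000000000000000000000000000000000000000000000000000000000000000000000000000000000000000000000000000000000000000000000000000000000000000000000000000000000000000000000000000000000000000000000000000000000000000000000000100000001000000010000000100000001000000010000000000000000000000000000000000000000000000000000000000000000000000000000000000000000000000000000000000000000000000000000000000000000000000000000000000000001000000000000000100000000000000010000000100000000000000010000000100000000000000010000000000000001000000000000000100000001000000000000000000000001000000000000000000000000000000000000000100000001000000010000000100000039)))))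
def D_t2 : TN := (TN.node (TN.node (TN.node (TN.leaf (nat_lit 0x10000000000000000000000000000000000000000000000000000000000000000000000000000000000000000000000000000000000000000000000000000000000000000000000000000000000000000000000000000000000000000000000000000000000000000000000000000000000000000000000000000000000000005)) (TN.leaf (nat_lit 0x10000000000000000000000000000000000000000000000000000000000000001000000010000000000000000000000000000000000000000000000010000000000000000000000000000000000000000000000000000000000000000000000000000000000000000000000000000000000000000000000000000000000000000000000010000000000000000000000010000000100000025))) (TN.node (TN.leaf (nat_lit 0x10000000000000000000000000000000100000000000000000000000000000000000000000000000000000000000000000000000000000015)) (TN.leaf (nat_lit 0x1000000010000000100000000000000000000000000000000000000000000000100000001000000010000000000000000000000000000000000000001000000000000000100000000000000000000000000000001000000010000000100000000000000000000000000000000000000000000000000000000000000000000000000000000000000000000000100000000000000010000000100000000000000010000000000000001000000000000000000000035))))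 (TN.node (TN.node (TN.leaf (nat_lit 0x1000000000000000d)) (TN.leaf (nat_lit 0x100000000000000000000000000000000000000000000000000000000000000000000000000000000000000000000000000000000000000000000000000000000000000000000000000000000000000000000000000000000000000000000000000000000000000000000000000000000000000000000000000000000000000000000000000000000000000000000000000000000000000000000000000000000000000000000000000000000000000000000000000000000000000000000000100000000000000010000000100000000000000010000000000000000000000000000000000000000000000000000000000000000000000000000000000000000000000000000000000000000000000000000000100000000000000000000000100000000000000000000000000000000000000000000000000000000000000000000000100000000000000000000000100000000000000000000000000000000000000000000002d))) (TN.node (TN.leaf (nat_lit 0x10000000000000000000000000000000100000001000000000000000000000001000000000000000000000000000000000000001d)) (TN.leaf (nat_lit 0x100000000000000000000000000000000000000000000000000000000000000000000000000000000000000000000000000000000000000000000000000000000000000000000000000000001000000010000000100000001000000000000000000000001000000010000000000000001000000000000000000000000000000000000000000000000000000000000000100000000000000000000000000000000000000010000000000000000000000000000000100000000000000010000000000000000000000010000000100000001000000010000000000000001000000000000000100000000000000000000000000000001000000000000003d)))))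
def D_t3 : TN := (TN.node D_t1 D_t2)
def D_t4 : TN := (TN.node (TN.node (TN.node (TN.node (TN.leaf (nat_lit 0x100000000000000000000000000000000000000000000000000000000000000000000000100000003)) (TN.leaf (nat_lit 0x1000000010000000100000001000000000000000000000000000000000000000000000000000000000000000000000000000000000000000000000000000000000000000100000001000000010000000100000001000000000000000000000000000000000000000100000001000000000000000000000000000000010000000000000000000000000000000100000001000000010000000000000001000000000000000100000000000000010000000100000001000000010000000000000001000000010000000000000001000000010000000000000001000000010000000000000000000000000000000000000000000000000000000000000000000000010000000000000001000000010000000100000000000000000000000100000043))) (TN.leaf (nat_lit 0x10000000100000000000000010000000000000000000000000000000100000000000000000000000000000000000000000000000000000000000000000000000000000000000000000000000000000000000000000000000100000001000000000000000100000001000000000000000100000000000000000000000000000023)))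 (TN.node (TN.leaf (nat_lit 0x100000000000000000000000000000000000000000000000000000000000000000000000000000000000000000000000000000000000000000000000000000000000000000000000000000000000000000000000000000000000000000000000000000000000000000000000000000000000000010000000000000000000000000000000000000000000000000000000100000013)) (TN.leaf (nat_lit 0x100000000000000000000000000000000000000000000000000000000000000000000000000000000000000000000000000000000000000000000000000000000000000010000000000000000000000000000000100000001000000010000000000000001000000000000000000000000000000000000000100000001000000010000000000000000000000000000000000000000000000000000000000000000000000000000000000000000000000000000000000000000000000000000000000000000000000000000000000000001000000010000000100000001000000010000000100000001000000000000000100000033)))) (TN.node (TN.node (TN.leaf (nat_lit 0x1000000000000000100000000000000000000000b)) (TN.leaf (nat_lit 0x10000000000000000000000000000000000000000000000000000000000000000000000000000000000000000000000000000000000000000000000000000000000000000000000000000000000000000000000000000000000000000000000000000000000000000000000000000000000000000000000000000000000000000000000000000000100000000000000000000000000000000000000000000000000000000000000000000000000000000000000000000000100000000000000000000000000000000000000000000000100000001000000000000000000000001000000010000000000000000000000000000000000000001000000000000002b)))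 (TN.node (TN.leaf (nat_lit 0x10000000000000000000000000000000000000000000000000000000000000000000000000000000000000000000000000000000100000000000000000000000000000001000000000000000000000000000000010000001b)) (TN.leaf (nat_lit 0x1000000010000000100000000000000000000000000000000000000000000000000000000000000000000000000000000000000000000000000000000000000000000000000000000000000000000000000000000000000000000000000000000000000000000000000000000000000010000000000000000000000010000000100000001000000000000000100000000000000010000000000000000000000000000000000000000000000000000000000000000000000000000000000000000000000000000000000000000000000000000000000000000000000000000000100000000000000000000000100000000000000000000000100000001000000010000000100000001000000000000000100000000000000000000000000000000000000010000000100000001000000010000000100000001000000000000000000000001000000000000003b)))))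
def D_t5 : TN := (TN.node (TN.node (TN.node (TN.leaf (nat_lit 0x10000000000000000000000000000000000000000000000000000000000000000000000000000000000000000000000000000000000000000000000000000000000000000000000000000000000000000000000000000000000000000000000000000000000000000000000000000000000000000000000000000000000000000000000000000000000000000000000000000000000000000000000000000000000000000000000000000000000000000000000000000000000000007)) (TN.leaf (nat_lit 0x100000000000000000000000000000000000000000000000000000000000000000000000000000000000000000000000000000000000000000000000000000000000000000000000000000000000000000000000000000000000000000000000000000000000000010000000000000000000000000000000000000000000000000000000100000000000000000000000000000000000000000000000000000000000000000000000000000000000000000000000000000000000000000000000000000000000000000000000000000000000000000000000000000000000000010000000100000000000000000000000000000000000000000000000000000027))) (TN.node (TN.leaf (nat_lit 0x10000000100000000000000000000000000000000000000000000000000000000000000000000000000000000000000000000000000000000000000000000000000000000000000000000000000000000000000000000000000000000000000000000000000000000000000000000000000000000000000010000000000000000000000000000000000000000000000000000000000000000000000000000000000000000000000000000000000000001000000010000000100000017))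 (TN.leaf (nat_lit 0x1000000010000000100000000000000000000000000000000000000000000000000000000000000000000000000000000000000000000000000000000000000000000000000000001000000000000000100000000000000000000000100000000000000010000000100000000000000000000000000000000000000000000000000000000000000000000000000000000000000000000000000000000000000000000000000000000000000000000000000000000000000000000000000000000000000000000000000000000000000000000000000000000000000010000000000000000000000010000000100000001000000000000000000000037)))) (TN.node (TN.node (TN.leaf (nat_lit 0x1000000000000000000000000000000000000000000000000000000000000000f)) (TN.leaf (nat_lit 0x10000000000000000000000000000000000000000000000000000000000000000000000000000000000000000000000000000000000000000000000010000000000000000000000010000000100000000000000000000000000000000000000000000000000000000000000000000000100000000000000000000000100000001000000000000000000000000000000000000000000000000000000000000000000000000000000010000000100000001000000010000000100000001000000000000002f))) (TN.node (TN.leaf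 (nat_lit 0x10000000000000000000000000000000000000000000000000000000000000000000000000000000000000000000000000000000000000000000000000000000100000000000000000000000000000000000000010000000000000001000000010000000100000000000000000000000000000000000000000000000000000000000000000000000000000000000000000000000000000000000000000000000000000000000000000000000000000000000000000000000000000000000000000000000000000000000000010000000000000001000000000000000000000000000000000000000100000000000000010000001f)) (TN.leaf (nat_lit 0x10000000000000000000000000000000000000000000000000000000000000000000000000000000000000000000000000000000000000000000000000000000000000000000000000000000100000001000000010000000000000000000000000000000100000001000000010000000100000001000000010000000000000000000000000000000100000001000000010000000100000001000000010000000100000001000000000000000100000001000000010000000000000001000000000000000000000000000000000000000100000001000000000000000100000001000000010000000100000000000000000000000100000000000000000000000000000000000000000000000100000000000000010000000000000000000000000000003f)))))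
def D_t6 : TN := (TN.node D_t4 D_t5)
def D_t7 : TN := (TN.node D_t3 D_t6)
def D_t8 : TN := (TN.node (TN.node (TN.node (TN.node (TN.leaf (nat_lit 0x1000000000000000100000002)) (TN.leaf (nat_lit 0x10000000100000001000000010000000100000000000000000000000000000000000000000000000000000000000000000000000000000000000000000000000000000000000000000000000000000000000000000000000000000000000000000000000000000000000000000000000000000000000000000000000000000000000000000000000000000000000000000000000000000000000000000000000000000001000000000000000100000001000000000000000100000001000000000000000000000001000000010000000100000000000000000000000000000001000000000000000000000000000000000000000100000001000000000000000000000000000000000000000000000000000000000000000000000000000000010000000000000001000000000000000100000001000000000000000000000000000000000000000000000000000000000000000000000000000000010000000100000000000000010000000100000042))) (TN.leaf (nat_lit 0x100000000000000000000000000000000000000000000000000000000000000000000000000000000000000000000000000000000000000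0000000000000000000000000000000000000000000000000000000000000000000000000000000000000000000000000000000000000000000000000100000000000000000000000000000000000000000000000100000000000000010000000100000000000000000000000000000000000000000000000000000000000000000000000000000000000000000000000000000000000000000000000000000000000000000000000000000000000000000000000000000000000000000000000000000001000000000000000000000000000000000000000000000000000000000000000000000000000000000000000100000000000000010000000100000000000000000000000000000001000000010000000100000022))) (TN.node (TN.leaf (nat_lit 0x10000000000000000000000000000000000000000000000000000000000000000000000000000000000000000000000000000000000000000000000000000000000000000000000000000000000000000000000000000000000000000000000000000000000000000000000000000000000000012)) (TN.leaf (nat_lit 0x1000000000000000000000000000000000000000000000000000000000000000000000000000000000000000000000000000000000000000000000000000000000000000000000000000000000000000000000000000000000000000000000000000000000000000000000000000000000000000000000000000000000000000000000000000000000000000000000000000000000000000000000000000000000000000000000000000000000000000000000000000000000000000000000000000000010000000100000000000000010000000100000000000000000000000000000000000000000000000000000000000000000000000000000000000000000000000000000000000000000000000000000000000000000000000100000000000000010000000000000000000000000000000000000000000000000000000000000001000000010000000100000000000000010000000000000000000000010000000000000032))))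 (TN.node (TN.node (TN.leaf (nat_lit 0x100000000000000000000000000000001000000010000000000000000000000000000000000000000000000000000000000000000000000010000000a)) (TN.leaf (nat_lit 0x10000000000000000000000000000000000000000000000000000000000000000000000000000000000000000000000000000000000000000000000000000000000000000000000000000000000000000000000000000000000000000000000000000000000000000000000000000000100000000000000000000000100000001000000000000000100000000000000000000000000000000000000000000000000000000000000000000000100000000000000000000000000000000000000000000000100000000000000000000000100000001000000000000000000000001000000010000000000000000000000000000000100000001000000000000002a))) (TN.node (TN.leaf (nat_lit 0x10000000100000001000000000000000000000000000000000000000000000000000000000000000000000000000000000000000000000000000000000000000000000000000000000000000000000000000000010000000000000000000000010000001a)) (TN.leaf (nat_lit 0x1000000000000000000000000000000000000000000000000000000000000000000000000000000000000000000000000000000000000000000000000000000000000000000000000000000000000000000000000000000000000000000000000000000000000000000000000000000010000000100000001000000000000000000000000000000010000000000000000000000000000000000000000000000000000000000000000000000000000000000000000000000000000000000000000000000000000000000000000000000000000000100000001000000000000000000000001000000000000000000000000000000010000000100000001000000010000000000000000000000010000000100000001000000010000000100000001000000010000000000000001000000000000000000000001000000000000003a)))))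
def D_t9 : TN := (TN.node (TN.node (TN.node (TN.leaf (nat_lit 0x100000000000000000000000000000000000000000000000000000000000000000000000000000000000000000000000000000000000000000000000000000000000000000000000000000000000000000000000000000000000000000000000000000000000000000000000000000000000000000000000000000000000000000000000000000000000000000000000000000000000000000000000000000006)) (TN.leaf (nat_lit 0x1000000010000000000000000000000000000000000000000000000000000000000000001000000010000000000000000000000000000000000000000000000000000000000000000000000000000000000000000000000000000000000000000000000000000000000000000000000000000000000000000000000010000000000000000000000010000000000000000000000000000000100000026))) (TN.node (TN.leaf (nat_lit 0x10000000000000000000000000000000000000000000000000000000000000000000000000000000000000000000000000000000000000000000000000000000000000000000000000000000000000000000000000000000000000000000000000000000000000000000000010000000000000000000000000000000000000000000000000000000000000001000000000000000000000000000000000000000000000000000000000000000000000000000000000000000000000000000000000000000000000016))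 (TN.leaf (nat_lit 0x1000000010000000000000001000000000000000000000000000000000000000100000001000000000000000100000000000000010000000000000001000000010000000100000001000000000000000000000000000000000000000000000000000000000000000100000000000000000000000000000001000000000000000000000001000000000000000100000000000000000000000100000001000000000000000000000036)))) (TN.node (TN.node (TN.leaf (nat_lit 0x100000000000000000000000000000000000000000000000000000000000000000000000e)) (TN.leaf (nat_lit 0x100000000000000000000000100000001000000000000000000000000000000000000000000000000000000000000000000000000000000000000000000000000000000000000000000000000000000000000000100000000000000000000000000000000000000000000000000000000000000000000000100000000000000000000000100000001000000000000000000000000000000000000000000000000000000000000000000000000000000000000000100000000000000000000000000000000000000000000002e))) (TN.node (TN.leaf (nat_lit 0x1000000000000000000000000000000000000000000000000000000000000000000000001000000010000000100000000000000000000000000000000000000000000000000000000000000000000000100000000000000000000001e))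 (TN.leaf (nat_lit 0x1000000000000000000000000000000000000000000000000000000000000000000000000000000000000000000000000000000000000000000000000000000010000000000000001000000010000000000000000000000000000000000000000000000010000000100000000000000000000000000000000000000000000000000000000000000000000000100000001000000010000000100000001000000010000000000000001000000010000000000000001000000010000000100000001000000010000000000000000000000010000000000000000000000010000000000000001000000010000000100000000000000010000000100000001000000000000000100000000000000010000000100000001000000010000003e)))))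
def D_t10 : TN := (TN.node D_t8 D_t9)
def D_t11 : TN := (TN.node (TN.node (TN.node (TN.node (TN.leaf (nat_lit 0x100000000000000000000000000000000000000000000000000000000000000000000000000000000000000000000000000000000000000000000000000000004)) (TN.leaf (nat_lit 0x100000000000000010000000100000000000000000000000000000000000000000000000000000000000000000000000000000000000000000000000100000000000000000000000000000000000000000000000000000000000000000000000000000000000000000000000000000000000000000000000100000000000000010000000100000000000000000000000000000001000000010000000000000024))) (TN.node (TN.leaf (nat_lit 0x100000000000000000000000100000014)) (TN.leaf (nat_lit 0x1000000000000000000000000000000000000000000000000000000000000000000000000000000000000000000000000000000000000000000000000000000000000000000000000000000000000000000000000000000000000000000000000000000000000000000000000000000000000000000000000000000000000000000000000000000000000000000000000000000000000000000000000000000000000000000000000000000000000000000000000000000000000000000000000000000000000000000000000000000010000000000000000000000010000000100000000000000000000000000000000000000000000000000000001000000000000000000000000000000000000000000000000000000000000000000000000000000000000000000000000000000000000000000000000000000000000000100000000000000000000000000000001000000010000000100000000000000010000000000000000000000000000000000000034))))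 (TN.node (TN.node (TN.leaf (nat_lit 0x10000000000000000000000000000000000000000000000000000000c)) (TN.leaf (nat_lit 0x10000000000000000000000010000000000000000000000000000000000000000000000000000000000000000000000010000000000000000000000000000000000000000000000000000000000000001000000000000000000000000000000000000000000000000000000000000000000000000000000000000000000000000000000010000000000000000000000000000000000000001000000000000000000000000000000010000000000000000000000010000000000000001000000000000002c))) (TN.node (TN.leaf (nat_lit 0x1000000000000000000000000000000000000000100000000000000000000000000000001000000000000000000000001000000000000000000000000000000000000001c)) (TN.leaf (nat_lit 0x100000001000000010000000000000000000000000000000000000000000000010000000000000000000000000000000000000001000000000000000100000000000000010000000000000000000000010000000000000000000000000000000100000001000000000000000000000000000000000000000100000000000000000000000100000001000000000000000100000001000000000000000100000000000000010000000000000000000000000000000000000000000000000000000100000001000000000000000100000001000000010000003c)))))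 (TN.node (TN.node (TN.node (TN.leaf (nat_lit 0x100000000000000000000000000000000000000000000000100000008)) (TN.leaf (nat_lit 0x10000000000000000000000000000000000000000000000000000000000000000000000000000000000000000000000000000000000000000000000000000000000000000000000000000000000000000000000000000000000000000000000000000000000000000000000010000000000000000000000000000000000000000000000000000000000000000000000010000000000000000000000000000000000000000000000000000000000000001000000000000000000000000000000000000000000000000000000010000000100000000000000000000000000000000000000000000000000000000000000000000000000000000000000000000000000000000000000000000000000000000000000000000000000000000000000010000000000000028))) (TN.node (TN.leaf (nat_lit 0x1000000010000000000000001000000000000000000000001000000000000000100000000000000010000000100000000000000000000000000000001000000000000000100000000000000000000000100000018)) (TN.leaf (nat_lit 0x100000000000000010000000100000000000000000000000000000000000000000000000000000000000000000000000000000000000000000000000000000000000000000000000000000000000000000000000100000000000000000000000000000000000000000000000000000000000000010000000000000000000000000000000000000000000000000000000000000000000000000000000100000000000000010000000000000000000000000000000000000000000000000000000000000000000000000000000000000000000000000000000000000000000000000000000000000000000000000000000000000000000000010000000000000038))))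 (TN.node (TN.node (TN.leaf (nat_lit 0x1000000000000000000000000000000000000000000000000000000000000000000000000000000000000000000000010)) (TN.leaf (nat_lit 0x1000000000000000000000000000000000000000000000000000000000000000000000000000000000000000000000000000000000000000000000000000000000000000000000000000000000000000000000000000000000000000000000000000000000000000000000000000000000000000000000000000000000000000000000000000000000000000000000000000000000000000000000000000000000000000000000000000000000000000000000001000000000000000000000000000000010000000100000001000000010000000000000001000000000000000000000000000000000000000000000000000000000000000000000000000000000000000000000000000000000000000000000000000000000000000000000000000000000000000000000001000000000000000100000001000000010000000000000001000000010000000100000001000000010000000100000001000000010000000000000030))) (TN.node (TN.leaf (nat_lit 0x100000000000000000000000000000000000000010000000000000001000000000000000100000000000000000000000000000000000000000000000000000000000000000000000000000000000000000000000000000000000000000000000000000000000000000000000000000000000000000000000000000000000000000000000000000000000000000000000000000000000000000000000000000000000000000000000100000001000000010000000000000000000000000000000000000001000000010000000100000001000000000000000100000020))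 (TN.leaf (nat_lit 0x10000000000000000000000000000000000000000000000000000000000000000000000000000000000000000000000000000000000000000000000000000000000000000000000000000000000000000000000000000000000000000000000000000000000000000000000000000000000000000000000000000000000000000000000000000000000000000000000000000000000000001000000010000000000000001000000010000000100000001000000010000000100000001000000010000000000000001000000000000000100000001000000010000000000000001000000000000000000000001000000000000000000000000000000000000000000000000000000000000000000000000000000000000000000000000000000000000000000000000000000000000000100000001000000010000000100000001000000010000000000000001000000010000000000000000000000010000000100000001000000010000000100000040))))))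
def D_t12 : TN := (TN.node D_t10 D_t11)
def D_t : TN := (TN.node D_t7 D_t12)
noncomputable def D (i : ℕ) : ℕ := TN.get D_t i
def La_t1 : TN := (TN.node (TN.node (TN.node (TN.node (TN.leaf (nat_lit 0x10000000100000000000000)) (TN.leaf (nat_lit 0x1000000010000010000000100000000000000))) (TN.leaf (nat_lit 0x10000000001010000000000000100))) (TN.node (TN.leaf (nat_lit 0x100000000000000010000000100000000000000)) (TN.leaf (nat_lit 0x10000000000000000000000000100000100000000000000000100)))) (TN.node (TN.node (TN.node (TN.leaf (nat_lit 0x1000000000000000000000000)) (TN.leaf (nat_lit 0x1000000000100000000000001010001010100000101000000000000))) (TN.leaf (nat_lit 0x1000000))) (TN.node (TN.leaf (nat_lit 0x10000000000000000000000)) (TN.leaf (nat_lit 0x10000000000000000000000000000000000)))))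
def La_t2 : TN := (TN.node (TN.node (TN.node (TN.node (TN.leaf (nat_lit 0)) (TN.leaf (nat_lit 0))) (TN.leaf (nat_lit 0))) (TN.node (TN.leaf (nat_lit 0)) (TN.leaf (nat_lit 0)))) (TN.node (TN.node (TN.node (TN.leaf (nat_lit 0)) (TN.leaf (nat_lit 0))) (TN.leaf (nat_lit 0))) (TN.node (TN.leaf (nat_lit 0)) (TN.leaf (nat_lit 0)))))
def La_t3 : TN := (TN.node La_t1 La_t2)
def La_t4 : TN := (TN.node (TN.node (TN.node (TN.node (TN.leaf (nat_lit 0)) (TN.leaf (nat_lit 0x10000000000010100010001010000000100000000010000010101000100010000010101000000000000000100010100000100010100))) (TN.leaf (nat_lit 0))) (TN.node (TN.leaf (nat_lit 0)) (TN.leaf (nat_lit 0)))) (TN.node (TN.node (TN.node (TN.leaf (nat_lit 0)) (TN.leaf (nat_lit 0x10000000000010000000001000000010100000000000100000100010000000101000000000000010100010001010100000101000100000101010001))) (TN.leaf (nat_lit 0))) (TN.node (TN.leaf (nat_lit 0)) (TN.leaf (nat_lit 0)))))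
def La_t5 : TN := (TN.node (TN.node (TN.node (TN.node (TN.leaf (nat_lit 0)) (TN.leaf (nat_lit 0))) (TN.leaf (nat_lit 0))) (TN.node (TN.leaf (nat_lit 0)) (TN.leaf (nat_lit 0)))) (TN.node (TN.node (TN.node (TN.leaf (nat_lit 0)) (TN.leaf (nat_lit 0))) (TN.leaf (nat_lit 0))) (TN.node (TN.leaf (nat_lit 0)) (TN.leaf (nat_lit 0)))))
def La_t6 : TN := (TN.node La_t4 La_t5)
def La_t7 : TN := (TN.node La_t3 La_t6)
def La_t8 : TN := (TN.node (TN.node (TN.node (TN.node (TN.leaf (nat_lit 0)) (TN.leaf (nat_lit 0x10000000001000100010100000000000001000000000000000000000100000100010001010000000100000101010101000000010100))) (TN.leaf (nat_lit 0x10000000000010000000000010100))) (TN.node (TN.leaf (nat_lit 0)) (TN.leaf (nat_lit 0)))) (TN.node (TN.node (TN.node (TN.leaf (nat_lit 0)) (TN.leaf (nat_lit 0x10100000000000001010000000001000100010100010100000000000100))) (TN.leaf (nat_lit 0x100000000000000000000010000000001000000000100000101010001010000000101010101000000000100))) (TN.node (TN.leaf (nat_lit 0)) (TN.leaf (nat_lit 0x10000000100000100010100000000000001000000000000000001000100000100000001010100000101010001010101000000000000)))))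
def La_t9 : TN := (TN.node (TN.node (TN.node (TN.node (TN.leaf (nat_lit 0)) (TN.leaf (nat_lit 0))) (TN.leaf (nat_lit 0))) (TN.node (TN.leaf (nat_lit 0)) (TN.leaf (nat_lit 0)))) (TN.node (TN.node (TN.node (TN.leaf (nat_lit 0)) (TN.leaf (nat_lit 0))) (TN.leaf (nat_lit 0))) (TN.node (TN.leaf (nat_lit 0)) (TN.leaf (nat_lit 0)))))
def La_t10 : TN := (TN.node La_t8 La_t9)
def La_t11 : TN := (TN.node (TN.node (TN.node (TN.node (TN.leaf (nat_lit 0)) (TN.leaf (nat_lit 0))) (TN.leaf (nat_lit 0))) (TN.node (TN.leaf (nat_lit 0)) (TN.leaf (nat_lit 0)))) (TN.node (TN.node (TN.node (TN.leaf (nat_lit 0)) (TN.leaf (nat_lit 0))) (TN.leaf (nat_lit 0))) (TN.node (TN.leaf (nat_lit 0)) (TN.leaf (nat_lit 0)))))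
def La_t12 : TN := (TN.node (TN.node (TN.node (TN.node (TN.leaf (nat_lit 0)) (TN.leaf (nat_lit 0))) (TN.leaf (nat_lit 0))) (TN.node (TN.leaf (nat_lit 0)) (TN.leaf (nat_lit 0)))) (TN.node (TN.node (TN.node (TN.leaf (nat_lit 0)) (TN.leaf (nat_lit 0))) (TN.leaf (nat_lit 0))) (TN.node (TN.leaf (nat_lit 0)) (TN.leaf (nat_lit 0)))))
def La_t13 : TN := (TN.node La_t11 La_t12)
def La_t14 : TN := (TN.node La_t10 La_t13)
def La_t15 : TN := (TN.node La_t7 La_t14)
def La_t16 : TN := (TN.node (TN.node (TN.node (TN.node (TN.leaf (nat_lit 0)) (TN.leaf (nat_lit 0x101000000000000010100000000000000010000000001000101010100000100000000010000))) (TN.leaf (nat_lit 0x100000000000000000000000000010100010100000100000000000100))) (TN.node (TN.leaf (nat_lit 0x10000000100000000000101)) (TN.leaf (nat_lit 0x1000000010001000100000000000000000100000000000000000001010100000101010100000100010101)))) (TN.node (TN.node (TN.node (TN.leaf (nat_lit 0)) (TN.leaf (nat_lit 0x100000100000000000000000000000001000000000100000101010000000000000101000100000001010000))) (TN.leaf (nat_lit 0))) (TN.node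 (TN.leaf (nat_lit 0x100000000000000000000000000)) (TN.leaf (nat_lit 0x1000000010001000000000000010100000000000000010000010000000100010001010100000000010000)))))
def La_t17 : TN := (TN.node (TN.node (TN.node (TN.node (TN.leaf (nat_lit 0)) (TN.leaf (nat_lit 0))) (TN.leaf (nat_lit 0))) (TN.node (TN.leaf (nat_lit 0)) (TN.leaf (nat_lit 0)))) (TN.node (TN.node (TN.node (TN.leaf (nat_lit 0)) (TN.leaf (nat_lit 0))) (TN.leaf (nat_lit 0))) (TN.node (TN.leaf (nat_lit 0)) (TN.leaf (nat_lit 0)))))
def La_t18 : TN := (TN.node La_t16 La_t17)
def La_t19 : TN := (TN.node (TN.node (TN.node (TN.node (TN.leaf (nat_lit 0)) (TN.leaf (nat_lit 0))) (TN.leaf (nat_lit 0))) (TN.node (TN.leaf (nat_lit 0)) (TN.leaf (nat_lit 0)))) (TN.node (TN.node (TN.node (TN.leaf (nat_lit 0)) (TN.leaf (nat_lit 0))) (TN.leaf (nat_lit 0))) (TN.node (TN.leaf (nat_lit 0)) (TN.leaf (nat_lit 0)))))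
def La_t20 : TN := (TN.node (TN.node (TN.node (TN.node (TN.leaf (nat_lit 0)) (TN.leaf (nat_lit 0))) (TN.leaf (nat_lit 0))) (TN.node (TN.leaf (nat_lit 0)) (TN.leaf (nat_lit 0)))) (TN.node (TN.node (TN.node (TN.leaf (nat_lit 0)) (TN.leaf (nat_lit 0))) (TN.leaf (nat_lit 0))) (TN.node (TN.leaf (nat_lit 0)) (TN.leaf (nat_lit 0)))))
def La_t21 : TN := (TN.node La_t19 La_t20)
def La_t22 : TN := (TN.node La_t18 La_t21)
def La_t23 : TN := (TN.node (TN.node (TN.node (TN.node (TN.leaf (nat_lit 0)) (TN.leaf (nat_lit 0x1000000000101000000010100000000010100000000010001010000010001000000010000010100000001010101000001000101000101000001010000))) (TN.leaf (nat_lit 0))) (TN.node (TN.leaf (nat_lit 0)) (TN.leaf (nat_lit 0)))) (TN.node (TN.node (TN.node (TN.leaf (nat_lit 0)) (TN.leaf (nat_lit 0))) (TN.leaf (nat_lit 0))) (TN.node (TN.leaf (nat_lit 0)) (TN.leaf (nat_lit 0x1000000000101010100000000000100000101010000010101010100000000010000000000000100010101010001000001010100010001000001000101)))))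
def La_t24 : TN := (TN.node (TN.node (TN.node (TN.node (TN.leaf (nat_lit 0)) (TN.leaf (nat_lit 0))) (TN.leaf (nat_lit 0))) (TN.node (TN.leaf (nat_lit 0)) (TN.leaf (nat_lit 0)))) (TN.node (TN.node (TN.node (TN.leaf (nat_lit 0)) (TN.leaf (nat_lit 0))) (TN.leaf (nat_lit 0))) (TN.node (TN.leaf (nat_lit 0)) (TN.leaf (nat_lit 0)))))
def La_t25 : TN := (TN.node La_t23 La_t24)
def La_t26 : TN := (TN.node (TN.node (TN.node (TN.node (TN.leaf (nat_lit 0)) (TN.leaf (nat_lit 0))) (TN.leaf (nat_lit 0))) (TN.node (TN.leaf (nat_lit 0)) (TN.leaf (nat_lit 0)))) (TN.node (TN.node (TN.node (TN.leaf (nat_lit 0)) (TN.leaf (nat_lit 0))) (TN.leaf (nat_lit 0))) (TN.node (TN.leaf (nat_lit 0)) (TN.leaf (nat_lit 0)))))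
def La_t27 : TN := (TN.node (TN.node (TN.node (TN.node (TN.leaf (nat_lit 0)) (TN.leaf (nat_lit 0))) (TN.leaf (nat_lit 0))) (TN.node (TN.leaf (nat_lit 0)) (TN.leaf (nat_lit 0)))) (TN.node (TN.node (TN.node (TN.leaf (nat_lit 0)) (TN.leaf (nat_lit 0))) (TN.leaf (nat_lit 0))) (TN.node (TN.leaf (nat_lit 0)) (TN.leaf (nat_lit 0)))))
def La_t28 : TN := (TN.node La_t26 La_t27)
def La_t29 : TN := (TN.node La_t25 La_t28)
def La_t30 : TN := (TN.node La_t22 La_t29)
def La_t31 : TN := (TN.node La_t15 La_t30)
def La_t32 : TN := (TN.node (TN.node (TN.node (TN.node (TN.leaf (nat_lit 0)) (TN.leaf (nat_lit 0x1000000010001010100000000010100000000000000010101000000000001010001010100010100010001))) (TN.leaf (nat_lit 0x1000000000000000000000000000000))) (TN.node (TN.leaf (nat_lit 0x10100000100000000000100)) (TN.leaf (nat_lit 0x10100000000000000010000000001010100010100000100000000010000)))) (TN.node (TN.node (TN.node (TN.leaf (nat_lit 0x10000000100000000000100)) (TN.leaf (nat_lit 0x1000000000000))) (TN.leaf (nat_lit 0x1000000000000000000000001010000010100000100000000000100)))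 (TN.node (TN.leaf (nat_lit 0x10000000000000000000000000000)) (TN.leaf (nat_lit 0x1000000010000010100000000000000000000000000000101010001010100000001010000010100000101)))))
def La_t33 : TN := (TN.node (TN.node (TN.node (TN.node (TN.leaf (nat_lit 0)) (TN.leaf (nat_lit 0))) (TN.leaf (nat_lit 0))) (TN.node (TN.leaf (nat_lit 0)) (TN.leaf (nat_lit 0)))) (TN.node (TN.node (TN.node (TN.leaf (nat_lit 0)) (TN.leaf (nat_lit 0))) (TN.leaf (nat_lit 0))) (TN.node (TN.leaf (nat_lit 0)) (TN.leaf (nat_lit 0)))))
def La_t34 : TN := (TN.node La_t32 La_t33)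
def La_t35 : TN := (TN.node (TN.node (TN.node (TN.node (TN.leaf (nat_lit 0)) (TN.leaf (nat_lit 0))) (TN.leaf (nat_lit 0))) (TN.node (TN.leaf (nat_lit 0)) (TN.leaf (nat_lit 0)))) (TN.node (TN.node (TN.node (TN.leaf (nat_lit 0)) (TN.leaf (nat_lit 0x100000100000000000000000100010000000000000001010001010001010001000100000101000001010001))) (TN.leaf (nat_lit 0))) (TN.node (TN.leaf (nat_lit 0)) (TN.leaf (nat_lit 0)))))
def La_t36 : TN := (TN.node (TN.node (TN.node (TN.node (TN.leaf (nat_lit 0)) (TN.leaf (nat_lit 0))) (TN.leaf (nat_lit 0))) (TN.node (TN.leaf (nat_lit 0)) (TN.leaf (nat_lit 0)))) (TN.node (TN.node (TN.node (TN.leaf (nat_lit 0)) (TN.leaf (nat_lit 0))) (TN.leaf (nat_lit 0))) (TN.node (TN.leaf (nat_lit 0)) (TN.leaf (nat_lit 0)))))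
def La_t37 : TN := (TN.node La_t35 La_t36)
def La_t38 : TN := (TN.node La_t34 La_t37)
def La_t39 : TN := (TN.node (TN.node (TN.node (TN.node (TN.leaf (nat_lit 0)) (TN.leaf (nat_lit 0x10000000101000100000001000000010101010100010000000100000100010000010101000101000101010000010000010100010101))) (TN.leaf (nat_lit 0))) (TN.node (TN.leaf (nat_lit 0)) (TN.leaf (nat_lit 0)))) (TN.node (TN.node (TN.node (TN.leaf (nat_lit 0)) (TN.leaf (nat_lit 0x1000001000100010000010100010000000101000000010000000001010001000000010000000100010101010001))) (TN.leaf (nat_lit 0x100000000000000000000010000000101000000010100000001010001000100010000010001000000000101))) (TN.node (TN.leaf (nat_lit 0)) (TN.leaf (nat_lit 0x100000000000000000001010100010000010001000000010000010101000000010101000101000100010101010101)))))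
def La_t40 : TN := (TN.node (TN.node (TN.node (TN.node (TN.leaf (nat_lit 0)) (TN.leaf (nat_lit 0))) (TN.leaf (nat_lit 0))) (TN.node (TN.leaf (nat_lit 0)) (TN.leaf (nat_lit 0)))) (TN.node (TN.node (TN.node (TN.leaf (nat_lit 0)) (TN.leaf (nat_lit 0))) (TN.leaf (nat_lit 0))) (TN.node (TN.leaf (nat_lit 0)) (TN.leaf (nat_lit 0)))))
def La_t41 : TN := (TN.node La_t39 La_t40)
def La_t42 : TN := (TN.node (TN.node (TN.node (TN.node (TN.leaf (nat_lit 0)) (TN.leaf (nat_lit 0))) (TN.leaf (nat_lit 0))) (TN.node (TN.leaf (nat_lit 0)) (TN.leaf (nat_lit 0)))) (TN.node (TN.node (TN.node (TN.leaf (nat_lit 0)) (TN.leaf (nat_lit 0))) (TN.leaf (nat_lit 0))) (TN.node (TN.leaf (nat_lit 0)) (TN.leaf (nat_lit 0)))))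
def La_t43 : TN := (TN.node (TN.node (TN.node (TN.node (TN.leaf (nat_lit 0)) (TN.leaf (nat_lit 0))) (TN.leaf (nat_lit 0))) (TN.node (TN.leaf (nat_lit 0)) (TN.leaf (nat_lit 0)))) (TN.node (TN.node (TN.node (TN.leaf (nat_lit 0)) (TN.leaf (nat_lit 0))) (TN.leaf (nat_lit 0))) (TN.node (TN.leaf (nat_lit 0)) (TN.leaf (nat_lit 0)))))
def La_t44 : TN := (TN.node La_t42 La_t43)
def La_t45 : TN := (TN.node La_t41 La_t44)
def La_t46 : TN := (TN.node La_t38 La_t45)
def La_t47 : TN := (TN.node (TN.node (TN.node (TN.node (TN.leaf (nat_lit 0)) (TN.leaf (nat_lit 0x10000000000))) (TN.leaf (nat_lit 0x10000000000000000010000000100000000010000))) (TN.node (TN.leaf (nat_lit 0)) (TN.leaf (nat_lit 0x1000000010001000100000000010100000000000000010100000000000000010001010000000100000101)))) (TN.node (TN.node (TN.node (TN.leaf (nat_lit 0)) (TN.leaf (nat_lit 0x100000000000000000000000000000001000000000100000101010001010000000101010101000001000100))) (TN.leaf (nat_lit 0x100000000000000000000000000000000))) (TN.node (TN.leaf (nat_lit 0x10000000100000000010000)) (TN.leaf (nat_lit 0x100000000)))))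
def La_t48 : TN := (TN.node (TN.node (TN.node (TN.node (TN.leaf (nat_lit 0)) (TN.leaf (nat_lit 0))) (TN.leaf (nat_lit 0))) (TN.node (TN.leaf (nat_lit 0)) (TN.leaf (nat_lit 0)))) (TN.node (TN.node (TN.node (TN.leaf (nat_lit 0)) (TN.leaf (nat_lit 0))) (TN.leaf (nat_lit 0))) (TN.node (TN.leaf (nat_lit 0)) (TN.leaf (nat_lit 0)))))
def La_t49 : TN := (TN.node La_t47 La_t48)
def La_t50 : TN := (TN.node (TN.node (TN.node (TN.node (TN.leaf (nat_lit 0)) (TN.leaf (nat_lit 0))) (TN.leaf (nat_lit 0))) (TN.node (TN.leaf (nat_lit 0)) (TN.leaf (nat_lit 0)))) (TN.node (TN.node (TN.node (TN.leaf (nat_lit 0)) (TN.leaf (nat_lit 0))) (TN.leaf (nat_lit 0))) (TN.node (TN.leaf (nat_lit 0)) (TN.leaf (nat_lit 0)))))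
def La_t51 : TN := (TN.node (TN.node (TN.node (TN.node (TN.leaf (nat_lit 0)) (TN.leaf (nat_lit 0))) (TN.leaf (nat_lit 0))) (TN.node (TN.leaf (nat_lit 0)) (TN.leaf (nat_lit 0)))) (TN.node (TN.node (TN.node (TN.leaf (nat_lit 0)) (TN.leaf (nat_lit 0))) (TN.leaf (nat_lit 0))) (TN.node (TN.leaf (nat_lit 0)) (TN.leaf (nat_lit 0)))))
def La_t52 : TN := (TN.node La_t50 La_t51)
def La_t53 : TN := (TN.node La_t49 La_t52)
def La_t54 : TN := (TN.node (TN.node (TN.node (TN.node (TN.leaf (nat_lit 0)) (TN.leaf (nat_lit 0x10000010000010100010001010000000000010100010001010101000100010000010101010000000001000100010000010000000000))) (TN.leaf (nat_lit 0))) (TN.node (TN.leaf (nat_lit 0)) (TN.leaf (nat_lit 0)))) (TN.node (TN.node (TN.node (TN.leaf (nat_lit 0)) (TN.leaf (nat_lit 0))) (TN.leaf (nat_lit 0))) (TN.node (TN.leaf (nat_lit 0)) (TN.leaf (nat_lit 0x10000000100000100010001010000000001000000010000000100000100010000000000000101010001010001010000000100010101)))))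
def La_t55 : TN := (TN.node (TN.node (TN.node (TN.node (TN.leaf (nat_lit 0)) (TN.leaf (nat_lit 0))) (TN.leaf (nat_lit 0))) (TN.node (TN.leaf (nat_lit 0)) (TN.leaf (nat_lit 0)))) (TN.node (TN.node (TN.node (TN.leaf (nat_lit 0)) (TN.leaf (nat_lit 0))) (TN.leaf (nat_lit 0))) (TN.node (TN.leaf (nat_lit 0)) (TN.leaf (nat_lit 0)))))
def La_t56 : TN := (TN.node La_t54 La_t55)
def La_t57 : TN := (TN.node (TN.node (TN.node (TN.node (TN.leaf (nat_lit 0)) (TN.leaf (nat_lit 0))) (TN.leaf (nat_lit 0))) (TN.node (TN.leaf (nat_lit 0)) (TN.leaf (nat_lit 0)))) (TN.node (TN.node (TN.node (TN.leaf (nat_lit 0)) (TN.leaf (nat_lit 0))) (TN.leaf (nat_lit 0))) (TN.node (TN.leaf (nat_lit 0)) (TN.leaf (nat_lit 0)))))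
def La_t58 : TN := (TN.node (TN.node (TN.node (TN.node (TN.leaf (nat_lit 0)) (TN.leaf (nat_lit 0))) (TN.leaf (nat_lit 0))) (TN.node (TN.leaf (nat_lit 0)) (TN.leaf (nat_lit 0)))) (TN.node (TN.node (TN.node (TN.leaf (nat_lit 0)) (TN.leaf (nat_lit 0))) (TN.leaf (nat_lit 0))) (TN.node (TN.leaf (nat_lit 0)) (TN.leaf (nat_lit 0)))))
def La_t59 : TN := (TN.node La_t57 La_t58)
def La_t60 : TN := (TN.node La_t56 La_t59)
def La_t61 : TN := (TN.node La_t53 La_t60)
def La_t62 : TN := (TN.node La_t46 La_t61)
def La_t : TN := (TN.node La_t31 La_t62)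
noncomputable def La (i : ℕ) : ℕ := TN.get La_t i
def Le_t : TN := (TN.leaf (nat_lit 0))
noncomputable def Le (i : ℕ) : ℕ := TN.get Le_t i
def C_t1 : TN := (TN.node (TN.node (TN.node (TN.node (TN.leaf (nat_lit 0)) (TN.leaf (nat_lit 0))) (TN.node (TN.leaf (nat_lit 0)) (TN.leaf (nat_lit 0)))) (TN.node (TN.node (TN.leaf (nat_lit 0)) (TN.leaf (nat_lit 0))) (TN.node (TN.leaf (nat_lit 0)) (TN.leaf (nat_lit 0))))) (TN.node (TN.node (TN.node (TN.leaf (nat_lit 0x1000000010000000000000000000000000000000000000000000000000000000000000000000000000000000000000000000000000000000000000000000000000000000000000000000000000000000000000000000000000000000000000000000000000000000000000000)) (TN.leaf (nat_lit 0))) (TN.node (TN.leaf (nat_lit 0)) (TN.leaf (nat_lit 0)))) (TN.node (TN.node (TN.leaf (nat_lit 0)) (TN.leaf (nat_lit 0))) (TN.node (TN.leaf (nat_lit 0)) (TN.leaf (nat_lit 0))))))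
def C_t2 : TN := (TN.node (TN.node (TN.node (TN.node (TN.leaf (nat_lit 0x10000000000000000000000000000000000000000000000000000000000000000000000000000000000000000000000000000000000000000000000000000000000000000000000000000000000000000000000000000000000000000000000000000000000000000)) (TN.leaf (nat_lit 0))) (TN.node (TN.leaf (nat_lit 0)) (TN.leaf (nat_lit 0)))) (TN.node (TN.node (TN.leaf (nat_lit 0)) (TN.leaf (nat_lit 0))) (TN.node (TN.leaf (nat_lit 0)) (TN.leaf (nat_lit 0))))) (TN.node (TN.node (TN.node (TN.leaf (nat_lit 0x10000000000000000000000000000000000000000000000000000000000000000000000000000000000000000000000000000000000000000000000000000000000000000000000000000000000000000000000000000000000000000000000000000000100000001000000010000000000000000000000000000000000000000000000000000000000000000000000000000000000000000000000000000000000000000000000000000000000000000000000000000000000000000000000000000000000000000000000000000000000000000)) (TN.leaf (nat_lit 0))) (TN.node (TN.leaf (nat_lit 0)) (TN.leaf (nat_lit 0)))) (TN.node (TN.node (TN.leaf (nat_lit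 0)) (TN.leaf (nat_lit 0))) (TN.node (TN.leaf (nat_lit 0)) (TN.leaf (nat_lit 0))))))
def C_t3 : TN := (TN.node C_t1 C_t2)
def C_t4 : TN := (TN.node (TN.node (TN.node (TN.node (TN.leaf (nat_lit 0x1000000000000000000000000000000000000000000000000000000000000000000000000000000000000000000000000000000000000000000000000000000000000000000000000)) (TN.leaf (nat_lit 0))) (TN.node (TN.leaf (nat_lit 0)) (TN.leaf (nat_lit 0)))) (TN.node (TN.node (TN.leaf (nat_lit 0)) (TN.leaf (nat_lit 0))) (TN.node (TN.leaf (nat_lit 0)) (TN.leaf (nat_lit 0))))) (TN.node (TN.node (TN.node (TN.leaf (nat_lit 0x100000000000000000000000000000000000000000000000000000000000000000000000000000000000000000000000000000000000000000000000000000000000000000000000000000000000000000000000000000000000000000000000000000000000000000000000000000000000000000000000000000000000000000000000000000000000000000000000000000000000000000000000000000000000000000000000000000000000000000000000000000000000000000000000000000000000000000000000000000000)) (TN.leaf (nat_lit 0))) (TN.node (TN.leaf (nat_lit 0)) (TN.leaf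 (nat_lit 0)))) (TN.node (TN.node (TN.leaf (nat_lit 0)) (TN.leaf (nat_lit 0))) (TN.node (TN.leaf (nat_lit 0)) (TN.leaf (nat_lit 0))))))
def C_t5 : TN := (TN.node (TN.node (TN.node (TN.node (TN.leaf (nat_lit 0x100000001000000000000000000000000000000000000000000000000000000000000000000000000000000000000000000000000000000000000000000000000000000000000000000000000000000000000000000000000000000000000000000000000000000000000000000000000)) (TN.leaf (nat_lit 0))) (TN.node (TN.leaf (nat_lit 0)) (TN.leaf (nat_lit 0)))) (TN.node (TN.node (TN.leaf (nat_lit 0)) (TN.leaf (nat_lit 0))) (TN.node (TN.leaf (nat_lit 0)) (TN.leaf (nat_lit 0))))) (TN.node (TN.node (TN.node (TN.leaf (nat_lit 0)) (TN.leaf (nat_lit 0))) (TN.node (TN.leaf (nat_lit 0)) (TN.leaf (nat_lit 0)))) (TN.node (TN.node (TN.leaf (nat_lit 0)) (TN.leaf (nat_lit 0))) (TN.node (TN.leaf (nat_lit 0)) (TN.leaf (nat_lit 0))))))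
def C_t6 : TN := (TN.node C_t4 C_t5)
def C_t : TN := (TN.node C_t3 C_t6)
noncomputable def C (i : ℕ) : ℕ := TN.get C_t i
def e (i : ℕ) : ℕ := Nat.land (Nat.shiftRight (nat_lit 0) (Nat.mul (nat_lit 1) i)) (nat_lit 1)
def U_t1 : TL := (TL.node (TL.node (TL.node (TL.node (TL.node (TL.node (TL.leaf [nat_lit 11]) (TL.leaf [nat_lit 16])) (TL.leaf [nat_lit 14])) (TL.node (TL.leaf [nat_lit 6]) (TL.leaf [nat_lit 16]))) (TL.node (TL.node (TL.leaf [nat_lit 14]) (TL.leaf [nat_lit 7])) (TL.node (TL.leaf [nat_lit 14]) (TL.leaf [nat_lit 14])))) (TL.node (TL.node (TL.node (TL.leaf [nat_lit 8]) (TL.leaf [nat_lit 12])) (TL.node (TL.leaf [nat_lit 5]) (TL.leaf [nat_lit 12]))) (TL.node (TL.node (TL.leaf [nat_lit 1]) (TL.leaf [nat_lit 16])) (TL.node (TL.leaf [nat_lit 14]) (TL.leaf [nat_lit 11]))))) (TL.node (TL.node (TL.node (TL.node (TL.node (TL.leaf [nat_lit 16]) (TL.leaf [nat_lit 12])) (TL.leaf [nat_lit 7])) (TL.node (TL.leaf [nat_lit 2]) (TL.leaf [nat_lit 11]))) (TL.node (TL.node (TL.leaf [nat_lit 14]) (TL.leaf [nat_lit 11])) (TL.node (TL.leaf [nat_lit 3]) (TL.leaf [nat_lit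 14])))) (TL.node (TL.node (TL.node (TL.leaf [nat_lit 10]) (TL.leaf [nat_lit 11])) (TL.node (TL.leaf [nat_lit 6]) (TL.leaf [nat_lit 11]))) (TL.node (TL.node (TL.leaf [nat_lit 4]) (TL.leaf [nat_lit 8])) (TL.node (TL.leaf [nat_lit 11]) (TL.leaf [nat_lit 12]))))))
def U_t2 : TL := (TL.node (TL.node (TL.node (TL.node (TL.node (TL.node (TL.leaf [nat_lit 14]) (TL.leaf [nat_lit 16])) (TL.leaf [nat_lit 14])) (TL.node (TL.leaf [nat_lit 6]) (TL.leaf [nat_lit 16]))) (TL.node (TL.node (TL.leaf [nat_lit 14]) (TL.leaf [nat_lit 11])) (TL.node (TL.leaf [nat_lit 7]) (TL.leaf [nat_lit 14])))) (TL.node (TL.node (TL.node (TL.leaf [nat_lit 9]) (TL.leaf [nat_lit 11])) (TL.node (TL.leaf [nat_lit 7]) (TL.leaf [nat_lit 12]))) (TL.node (TL.node (TL.leaf [nat_lit 3]) (TL.leaf [nat_lit 8])) (TL.node (TL.leaf [nat_lit 5]) (TL.leaf [nat_lit 12]))))) (TL.node (TL.node (TL.node (TL.node (TL.leaf [nat_lit 6]) (TL.leaf [nat_lit 7])) (TL.node (TL.leaf [nat_lit 3]) (TL.leaf [nat_lit 16]))) (TL.node (TL.node (TL.leaf [nat_lit 1]) (TL.leaf [nat_lit 16])) (TL.node (TL.leaf [nat_lit 12]) (TL.leaf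 [nat_lit 12])))) (TL.node (TL.node (TL.node (TL.leaf [nat_lit 11]) (TL.leaf [nat_lit 12])) (TL.node (TL.leaf [nat_lit 12]) (TL.leaf [nat_lit 11]))) (TL.node (TL.node (TL.leaf [nat_lit 5]) (TL.leaf [nat_lit 16])) (TL.node (TL.leaf [nat_lit 12]) (TL.leaf [nat_lit 16]))))))
def U_t : TL := (TL.node U_t1 U_t2)
noncomputable def U (i : ℕ) : List ℕ := TL.get U_t i
def V1_t1 : TL := (TL.node (TL.node (TL.node (TL.node (TL.node (TL.node (TL.leaf [nat_lit 3, nat_lit 3]) (TL.leaf [nat_lit 8, nat_lit 10])) (TL.leaf [nat_lit 4, nat_lit 10])) (TL.node (TL.leaf [nat_lit 8, nat_lit 8]) (TL.leaf [nat_lit 5, nat_lit 8]))) (TL.node (TL.node (TL.leaf [nat_lit 5, nat_lit 5]) (TL.leaf [nat_lit 7, nat_lit 10])) (TL.node (TL.leaf [nat_lit 10, nat_lit 10]) (TL.leaf [nat_lit 6, nat_lit 7])))) (TL.node (TL.node (TL.node (TL.leaf [nat_lit 8, nat_lit 8]) (TL.leaf [nat_lit 2, nat_lit 3])) (TL.node (TL.leaf [nat_lit 5, nat_lit 8]) (TL.leaf [nat_lit 3, nat_lit 3]))) (TL.node (TL.node (TL.leaf [nat_lit 10, nat_lit 10]) (TL.leaf [nat_lit 9, nat_lit 9])) (TL.node (TL.leaf [nat_lit 3, nat_lit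 5]) (TL.leaf [nat_lit 5, nat_lit 7]))))) (TL.node (TL.node (TL.node (TL.node (TL.node (TL.leaf [nat_lit 4, nat_lit 4]) (TL.leaf [nat_lit 13, nat_lit 10])) (TL.leaf [nat_lit 8, nat_lit 8])) (TL.node (TL.leaf [nat_lit 9, nat_lit 9]) (TL.leaf [nat_lit 9, nat_lit 9]))) (TL.node (TL.node (TL.leaf [nat_lit 3, nat_lit 3]) (TL.leaf [nat_lit 3, nat_lit 6])) (TL.node (TL.leaf [nat_lit 7, nat_lit 7]) (TL.leaf [nat_lit 7, nat_lit 7])))) (TL.node (TL.node (TL.node (TL.leaf [nat_lit 10, nat_lit 10]) (TL.leaf [nat_lit 3, nat_lit 8])) (TL.node (TL.leaf [nat_lit 10, nat_lit 10]) (TL.leaf [nat_lit 7, nat_lit 7]))) (TL.node (TL.node (TL.leaf [nat_lit 10, nat_lit 10]) (TL.leaf [nat_lit 8, nat_lit 10])) (TL.node (TL.leaf [nat_lit 8, nat_lit 8]) (TL.leaf [nat_lit 10, nat_lit 10]))))))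
def V1_t2 : TL := (TL.node (TL.node (TL.node (TL.node (TL.node (TL.node (TL.leaf [nat_lit 2, nat_lit 2]) (TL.leaf [nat_lit 9, nat_lit 10])) (TL.leaf [nat_lit 6, nat_lit 6])) (TL.node (TL.leaf [nat_lit 6, nat_lit 8]) (TL.leaf [nat_lit 5, nat_lit 9]))) (TL.node (TL.node (TL.leaf [nat_lit 4, nat_lit 4]) (TL.leaf [nat_lit 6, nat_lit 6])) (TL.node (TL.leaf [nat_lit 7, nat_lit 7]) (TL.leaf [nat_lit 7, nat_lit 10])))) (TL.node (TL.node (TL.node (TL.leaf [nat_lit 9, nat_lit 9]) (TL.leaf [nat_lit 3, nat_lit 9])) (TL.node (TL.leaf [nat_lit 10, nat_lit 10]) (TL.leaf [nat_lit 3, nat_lit 4]))) (TL.node (TL.node (TL.leaf [nat_lit 9, nat_lit 9]) (TL.leaf [nat_lit 10, nat_lit 10])) (TL.node (TL.leaf [nat_lit 7, nat_lit 7]) (TL.leaf [nat_lit 9, nat_lit 9]))))) (TL.node (TL.node (TL.node (TL.node (TL.leaf [nat_lit 6, nat_lit 6]) (TL.leaf [nat_lit 9, nat_lit 9])) (TL.node (TL.leaf [nat_lit 3, nat_lit 6]) (TL.leaf [nat_lit 2, nat_lit 8]))) (TL.node (TL.node (TL.leaf [nat_lit 8, nat_lit 8]) (TL.leaf [nat_lit 4, nat_lit 10])) (TL.node (TL.leaf [nat_lit 2, nat_lit 4]) (TL.leaf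 [nat_lit 3, nat_lit 5])))) (TL.node (TL.node (TL.node (TL.leaf [nat_lit 4, nat_lit 4]) (TL.leaf [nat_lit 2, nat_lit 9])) (TL.node (TL.leaf [nat_lit 4, nat_lit 4]) (TL.leaf [nat_lit 7, nat_lit 8]))) (TL.node (TL.node (TL.leaf [nat_lit 10, nat_lit 10]) (TL.leaf [nat_lit 8, nat_lit 8])) (TL.node (TL.leaf [nat_lit 5, nat_lit 5]) (TL.leaf [nat_lit 10, nat_lit 10]))))))
def V1_t : TL := (TL.node V1_t1 V1_t2)
noncomputable def V1 (i : ℕ) : List ℕ := TL.get V1_t i
def V2_t1 : TL := (TL.node (TL.node (TL.node (TL.node (TL.node (TL.node (TL.leaf []) (TL.leaf [nat_lit 10, nat_lit 8, nat_lit 6, nat_lit 3, nat_lit 2])) (TL.leaf [nat_lit 10, nat_lit 4])) (TL.node (TL.leaf [nat_lit 4]) (TL.leaf [nat_lit 8, nat_lit 5, nat_lit 4]))) (TL.node (TL.node (TL.leaf []) (TL.leaf [nat_lit 10, nat_lit 7, nat_lit 5])) (TL.node (TL.leaf [nat_lit 2]) (TL.leaf [nat_lit 7, nat_lit 6, nat_lit 4, nat_lit 2])))) (TL.node (TL.node (TL.node (TL.leaf [nat_lit 4]) (TL.leaf [nat_lit 3, nat_lit 2])) (TL.node (TL.leaf [nat_lit 8, nat_lit 5, nat_lit 4]) (TL.leaf []))) (TL.node (TL.node (TL.leaf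 [nat_lit 2]) (TL.leaf [nat_lit 4])) (TL.node (TL.leaf [nat_lit 5, nat_lit 3]) (TL.leaf [nat_lit 7, nat_lit 5, nat_lit 2]))))) (TL.node (TL.node (TL.node (TL.node (TL.node (TL.leaf []) (TL.leaf [nat_lit 10, nat_lit 13, nat_lit 6, nat_lit 5, nat_lit 4, nat_lit 3])) (TL.leaf [nat_lit 4])) (TL.node (TL.leaf [nat_lit 4]) (TL.leaf [nat_lit 4]))) (TL.node (TL.node (TL.leaf []) (TL.leaf [nat_lit 6, nat_lit 3, nat_lit 1])) (TL.node (TL.leaf [nat_lit 4, nat_lit 3, nat_lit 2]) (TL.leaf [nat_lit 4, nat_lit 3, nat_lit 2])))) (TL.node (TL.node (TL.node (TL.leaf [nat_lit 2]) (TL.leaf [nat_lit 8, nat_lit 3, nat_lit 1])) (TL.node (TL.leaf [nat_lit 2]) (TL.leaf [nat_lit 4, nat_lit 3, nat_lit 2]))) (TL.node (TL.node (TL.leaf [nat_lit 2]) (TL.leaf [nat_lit 10, nat_lit 8, nat_lit 6, nat_lit 3, nat_lit 2])) (TL.node (TL.leaf [nat_lit 4]) (TL.leaf [nat_lit 2]))))))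
def V2_t2 : TL := (TL.node (TL.node (TL.node (TL.node (TL.node (TL.node (TL.leaf []) (TL.leaf [nat_lit 10, nat_lit 9, nat_lit 6, nat_lit 5, nat_lit 4, nat_lit 3, nat_lit 2])) (TL.leaf [nat_lit 1])) (TL.node (TL.leaf [nat_lit 8, nat_lit 6]) (TL.leaf [nat_lit 9, nat_lit 5, nat_lit 4]))) (TL.node (TL.node (TL.leaf []) (TL.leaf [nat_lit 1])) (TL.node (TL.leaf [nat_lit 4, nat_lit 3, nat_lit 2]) (TL.leaf [nat_lit 10, nat_lit 7, nat_lit 5])))) (TL.node (TL.node (TL.node (TL.leaf [nat_lit 4]) (TL.leaf [nat_lit 9, nat_lit 3])) (TL.node (TL.leaf [nat_lit 2]) (TL.leaf [nat_lit 4, nat_lit 3]))) (TL.node (TL.node (TL.leaf [nat_lit 4]) (TL.leaf [nat_lit 2])) (TL.node (TL.leaf [nat_lit 4, nat_lit 3, nat_lit 2]) (TL.leaf [nat_lit 4]))))) (TL.node (TL.node (TL.node (TL.node (TL.leaf [nat_lit 1]) (TL.leaf [nat_lit 4])) (TL.node (TL.leaf [nat_lit 6, nat_lit 3, nat_lit 1]) (TL.leaf [nat_lit 8, nat_lit 2, nat_lit 1]))) (TL.node (TL.node (TL.leaf [nat_lit 4]) (TL.leaf [nat_lit 10, nat_lit 4])) (TL.node (TL.leaf [nat_lit 4, nat_lit 2]) (TL.leaf [nat_lit 5, nat_lit 3])))) (TL.node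 (TL.node (TL.node (TL.leaf []) (TL.leaf [nat_lit 9, nat_lit 2, nat_lit 1])) (TL.node (TL.leaf []) (TL.leaf [nat_lit 8, nat_lit 7, nat_lit 4, nat_lit 3, nat_lit 1]))) (TL.node (TL.node (TL.leaf [nat_lit 2]) (TL.leaf [nat_lit 4])) (TL.node (TL.leaf []) (TL.leaf [nat_lit 2]))))))
def V2_t : TL := (TL.node V2_t1 V2_t2)
noncomputable def V2 (i : ℕ) : List ℕ := TL.get V2_t i
def Y_t : TL := (TL.node (TL.node (TL.node (TL.node (TL.leaf [nat_lit 2, nat_lit 1]) (TL.leaf [nat_lit 6, nat_lit 5, nat_lit 4, nat_lit 3, nat_lit 2, nat_lit 1])) (TL.leaf [nat_lit 9, nat_lit 8, nat_lit 7, nat_lit 6, nat_lit 4, nat_lit 2])) (TL.node (TL.leaf [nat_lit 9, nat_lit 8, nat_lit 7, nat_lit 3]) (TL.leaf [nat_lit 10, nat_lit 8, nat_lit 4, nat_lit 1]))) (TL.node (TL.node (TL.node (TL.leaf [nat_lit 1]) (TL.leaf [nat_lit 8, nat_lit 7, nat_lit 5, nat_lit 4, nat_lit 3, nat_lit 2, nat_lit 1])) (TL.leaf [nat_lit 10, nat_lit 5, nat_lit 4, nat_lit 3, nat_lit 2, nat_lit 1])) (TL.node (TL.leaf [nat_lit 3, nat_lit 2]) (TL.leaf [nat_lit 4, nat_lit 1]))))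
noncomputable def Y (i : ℕ) : List ℕ := TL.get Y_t i
def O_t : TL := (TL.node (TL.node (TL.node (TL.node (TL.leaf [nat_lit 1]) (TL.leaf [nat_lit 0, nat_lit 14])) (TL.leaf [nat_lit 2])) (TL.node (TL.leaf [nat_lit 1, nat_lit 8, nat_lit 16, nat_lit 18]) (TL.leaf [nat_lit 5]))) (TL.node (TL.node (TL.node (TL.leaf [nat_lit 1, nat_lit 8]) (TL.leaf [nat_lit 0, nat_lit 14, nat_lit 5, nat_lit 13])) (TL.leaf [nat_lit 2, nat_lit 21])) (TL.node (TL.leaf [nat_lit 1, nat_lit 8, nat_lit 16, nat_lit 20, nat_lit 18, nat_lit 6, nat_lit 11, nat_lit 3]) (TL.leaf [nat_lit 0]))))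
noncomputable def O (i : ℕ) : List ℕ := TL.get O_t i
noncomputable def f1 : ℕ → ℕ := rvE Q B (nat_lit 27) Ru
noncomputable def f2 (j : ℕ) : ℕ := rlE I Ru (nat_lit 94) (nat_lit 2) (U j) (V1 j) (V2 j) (D j)
noncomputable def f3 : ℕ → ℕ := tgR I Ru (nat_lit 94) (nat_lit 2) (nat_lit 2) C D (nat_lit 67) La
noncomputable def f4 : ℕ → ℕ := chE Q B (nat_lit 24) (nat_lit 27) (nat_lit 10) (nat_lit 17) Y O
theorem ra0 : Nat.beq (rng f1 (nat_lit 0) (nat_lit 85)) (nat_lit 0) = true := by decide +kernel
theorem ra85 : Nat.beq (rng f1 (nat_lit 85) (nat_lit 9)) (nat_lit 0) = true := by decide +kernel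
theorem rb0 : Nat.beq (rng f2 (nat_lit 0) (nat_lit 67)) (nat_lit 0) = true := by decide +kernel
theorem rc0 : Nat.beq (rng f3 (nat_lit 0) (nat_lit 10)) (nat_lit 0) = true := by decide +kernel
theorem rd0 : Nat.beq (rng f4 (nat_lit 0) (nat_lit 10)) (nat_lit 0) = true := by decide +kernel
theorem h1 : ∀ i < 94, f1 i = 0 := by
  have h := zero_lt_zero f1
  have h := zero_lt_add (a := (nat_lit 0)) (n := (nat_lit 85)) (b := (nat_lit 85)) h ra0 rfl
  have h := zero_lt_add (a := (nat_lit 85)) (n := (nat_lit 9)) (b := (nat_lit 94)) h ra85 rfl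
  exact h
theorem h2 : ∀ i < 67, f2 i = 0 := by
  have h := zero_lt_zero f2
  have h := zero_lt_add (a := (nat_lit 0)) (n := (nat_lit 67)) (b := (nat_lit 67)) h rb0 rfl
  exact h
theorem h3 : ∀ i < 10, f3 i = 0 := by
  have h := zero_lt_zero f3
  have h := zero_lt_add (a := (nat_lit 0)) (n := (nat_lit 10)) (b := (nat_lit 10)) h rc0 rfl
  exact h
theorem h4 : ∀ i < 10, f4 i = 0 := by
  have h := zero_lt_zero f4
  have h := zero_lt_add (a := (nat_lit 0)) (n := (nat_lit 10)) (b := (nat_lit 10)) h rd0 rfl
  exact h
theorem nok : NoK (Cfsg.M24) (2 ^ (0 + 1)) := fun _ _ _ _ h =>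
  (md.rv (I := I) (K := 94) rfl ⟨rfl, by decide⟩ (upTo_beq (by decide +kernel)) h1).core h (by norm_num)
    (md.syl (by norm_num) rfl (by decide) h4) (by rw [Spor.card_M24]; decide) (n := 2) (s := 0) (e := e) (L := Le) (C := C)
    ⟨rfl, by decide, rfl, by decide, by decide, rfl, by decide⟩ h2 (upTo_beq (by decide +kernel)) (upTo_beq (by decide +kernel)) h3

end Cfsg.Agent.Ct.M24s.S2
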